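import Cfsg.Agent.Lib.SLOddIndex.TwoPart
import Mathlib

/-! Sylow 2-subgroups of `GL_{2m}(q)`, `q` odd, from those of `GL_m(q)`. -/

set_option autoImplicit false
set_option linter.unusedSectionVars false

namespace Cfsg.Agent.Lib.SLOddIndex

open Matrix

variable {F : Type*} [Field F] {κ : Type*} [Fintype κ] [DecidableEq κ]

/-- The scalar matrices. -/
def IsScal {ι : Type*} [Fintype ι] [DecidableEq ι] (x : GL ι F) : Prop :=
  ∃ c : F, (x : Matrix ι ι F) = Matrix.scalar ι c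

theorem IsScal.commute {ι : Type*} [Fintype ι] [DecidableEq ι] {x : GL ι F} (h : IsScal x) (y : GL ι F) :
    x * y = y * x := by
  obtain ⟨c, hc⟩ := h
  apply Units.ext
  rw [Units.val_mul, Units.val_mul, hc]
  exact (Matrix.scalar_commute c (fun r => mul_comm c r) (y : Matrix ι ι F)).eq

theorem isScal_one {ι : Type*} [Fintype ι] [DecidableEq ι] : IsScal (1 : GL ι F) := ⟨1, by simp⟩

theorem odd_two_power {G : Type*} [Group G] {x : G} {r k : ℕ} (hr : r % 2 = 1) (h1 : x ^ r = 1)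
    (h2 : x ^ 2 ^ k = 1) : x = 1 := by
  have h : x ^ Nat.gcd r (2 ^ k) = 1 := pow_gcd_eq_one.2 ⟨h1, h2⟩
  rwa [Nat.Coprime.pow_right k (Nat.odd_iff.2 hr).coprime_two_right, pow_one] at h

/-- Block diagonal matrices. -/
def emb : GL κ F × GL κ F →* GL (κ ⊕ κ) F :=
  MonoidHom.toHomUnits
    { toFun := fun p => Matrix.fromBlocks (p.1 : Matrix κ κ F) 0 0 (p.2 : Matrix κ κ F)
      map_one' := by simp [Matrix.fromBlocks_one]
      map_mul' := fun p q => by simp [Matrix.fromBlocks_multiply] }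

theorem emb_val (p : GL κ F × GL κ F) :
    ((emb p : GL (κ ⊕ κ) F) : Matrix (κ ⊕ κ) (κ ⊕ κ) F) =
      Matrix.fromBlocks (p.1 : Matrix κ κ F) 0 0 (p.2 : Matrix κ κ F) := rfl

theorem emb_injective : Function.Injective (emb : GL κ F × GL κ F →* GL (κ ⊕ κ) F) := by
  intro p q h
  obtain ⟨h1, -, -, h2⟩ := Matrix.fromBlocks_inj.1 (congrArg Units.val h)
  exact Prod.ext (Units.ext h1) (Units.ext h2)

theorem det_emb (b c : GL κ F) :
    Matrix.GeneralLinearGroup.det (emb (b, c)) =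
      Matrix.GeneralLinearGroup.det b * Matrix.GeneralLinearGroup.det c := by
  apply Units.ext
  simp [Matrix.GeneralLinearGroup.val_det_apply, emb_val]

/-- The block swap. -/
def sw : GL (κ ⊕ κ) F where
  val := Matrix.fromBlocks 0 1 1 0
  inv := Matrix.fromBlocks 0 1 1 0
  val_inv := by simp [Matrix.fromBlocks_multiply, Matrix.fromBlocks_one]
  inv_val := by simp [Matrix.fromBlocks_multiply, Matrix.fromBlocks_one]

theorem sw_mul_self : (sw : GL (κ ⊕ κ) F) * sw = 1 := by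
  apply Units.ext
  simp [sw, Matrix.fromBlocks_multiply, Matrix.fromBlocks_one]

theorem sw_inv : (sw : GL (κ ⊕ κ) F)⁻¹ = sw := inv_eq_of_mul_eq_one_right sw_mul_self

theorem sw_emb (b c : GL κ F) : (sw : GL (κ ⊕ κ) F) * emb (b, c) = emb (c, b) * sw := by
  apply Units.ext
  simp [sw, emb_val, Matrix.fromBlocks_multiply]

theorem emb_ne_sw [Nonempty κ] (b c b' c' : GL κ F) : emb (b, c) ≠ emb (b', c') * (sw : GL (κ ⊕ κ) F) := by
  intro h
  have h1 := congrArg Units.val h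
  simp [sw, emb_val, Matrix.fromBlocks_multiply] at h1

theorem det_sw (heven : Even (Fintype.card κ)) :
    Matrix.GeneralLinearGroup.det (sw : GL (κ ⊕ κ) F) = 1 := by
  apply Units.ext
  have e : (Matrix.fromBlocks 0 1 1 0 : Matrix (κ ⊕ κ) (κ ⊕ κ) F) =
      Matrix.fromBlocks 1 1 0 1 * Matrix.fromBlocks 1 0 (-1) 1 * Matrix.fromBlocks 1 1 0 1 *
        Matrix.fromBlocks (-1) 0 0 1 := by
    simp [Matrix.fromBlocks_multiply]
  show (Matrix.fromBlocks 0 1 1 0 : Matrix (κ ⊕ κ) (κ ⊕ κ) F).det = 1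
  rw [e, Matrix.det_mul, Matrix.det_mul, Matrix.det_mul]
  simp [Matrix.det_neg, heven.neg_one_pow]

/-- The group `W ≀ 2`. -/
def W1 (W : Subgroup (GL κ F)) : Subgroup (GL (κ ⊕ κ) F) where
  carrier := {x | ∃ b ∈ W, ∃ c ∈ W, x = emb (b, c) ∨ x = emb (b, c) * sw}
  one_mem' := ⟨1, one_mem W, 1, one_mem W, Or.inl (map_one (emb : GL κ F × GL κ F →* GL (κ ⊕ κ) F)).symm⟩
  mul_mem' := by
    rintro _ _ ⟨b, hb, c, hc, rfl | rfl⟩ ⟨b', hb', c', hc', rfl | rfl⟩
    · exact ⟨b * b', mul_mem hb hb', c * c', mul_mem hc hc', Or.inl (by rw [← map_mul, Prod.mk_mul_mk])⟩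
    · exact ⟨b * b', mul_mem hb hb', c * c', mul_mem hc hc', Or.inr (by
        rw [← mul_assoc, ← map_mul, Prod.mk_mul_mk])⟩
    · exact ⟨b * c', mul_mem hb hc', c * b', mul_mem hc hb', Or.inr (by
        rw [mul_assoc, sw_emb, ← mul_assoc, ← map_mul, Prod.mk_mul_mk])⟩
    · exact ⟨b * c', mul_mem hb hc', c * b', mul_mem hc hb', Or.inl (by
        rw [mul_assoc, ← mul_assoc sw, sw_emb, mul_assoc (emb (c', b')), sw_mul_self, mul_one,
          ← map_mul, Prod.mk_mul_mk])⟩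
  inv_mem' := by
    rintro _ ⟨b, hb, c, hc, rfl | rfl⟩
    · exact ⟨b⁻¹, inv_mem hb, c⁻¹, inv_mem hc, Or.inl (by rw [← map_inv, Prod.inv_mk])⟩
    · exact ⟨c⁻¹, inv_mem hc, b⁻¹, inv_mem hb, Or.inr (by
        rw [_root_.mul_inv_rev, sw_inv, ← map_inv, Prod.inv_mk, sw_emb])⟩

theorem card_GL_eq [Fintype F] (ι : Type*) [Fintype ι] [DecidableEq ι] :
    Nat.card (GL ι F) = glOrder (Fintype.card F) (Fintype.card ι) := by
  have e : GL ι F ≃ GL (Fin (Fintype.card ι)) F :=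
    (Units.mapEquiv (Matrix.reindexAlgEquiv F F (Fintype.equivFin ι)).toMulEquiv).toEquiv
  rw [Nat.card_congr e, Matrix.card_GL_field]
  unfold glOrder
  exact Fin.prod_univ_eq_prod_range (fun i => Fintype.card F ^ Fintype.card ι - Fintype.card F ^ i) _

theorem card_W1 [Fintype F] [Nonempty κ] (W : Subgroup (GL κ F)) :
    Nat.card (W1 W) = 2 * (Nat.card W * Nat.card W) := by
  let f : Bool × W × W → W1 W := fun p =>
    ⟨emb ((p.2.1 : GL κ F), (p.2.2 : GL κ F)) * cond p.1 sw 1, p.2.1, p.2.1.2, p.2.2, p.2.2.2, by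
      cases p.1
      · exact Or.inl (mul_one _)
      · exact Or.inr rfl⟩
  have hf : Function.Bijective f := by
    constructor
    · rintro ⟨e, b, c⟩ ⟨e', b', c'⟩ h
      have h' : emb ((b : GL κ F), (c : GL κ F)) * cond e sw 1 =
          emb ((b' : GL κ F), (c' : GL κ F)) * cond e' sw 1 := congrArg Subtype.val h
      cases e <;> cases e' <;> simp only [cond_true, cond_false, mul_one] at h'
      · obtain ⟨h1, h2⟩ := Prod.ext_iff.1 (emb_injective h')
        exact Prod.ext rfl (Prod.ext (Subtype.ext h1) (Subtype.ext h2))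
      · exact absurd h' (emb_ne_sw _ _ _ _)
      · exact absurd h'.symm (emb_ne_sw _ _ _ _)
      · obtain ⟨h1, h2⟩ := Prod.ext_iff.1 (emb_injective (mul_right_cancel h'))
        exact Prod.ext rfl (Prod.ext (Subtype.ext h1) (Subtype.ext h2))
    · rintro ⟨x, b, hb, c, hc, rfl | rfl⟩
      · exact ⟨⟨false, ⟨b, hb⟩, ⟨c, hc⟩⟩, Subtype.ext (mul_one _)⟩
      · exact ⟨⟨true, ⟨b, hb⟩, ⟨c, hc⟩⟩, rfl⟩
  rw [← Nat.card_eq_of_bijective f hf, Nat.card_prod, Nat.card_prod, Nat.card_eq_fintype_card (α := Bool),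
    Fintype.card_bool]

/-- `W ≀ 2` is a Sylow subgroup. -/
theorem exists_sylow_W1 [Fintype F] (hodd : Fintype.card F % 2 = 1) {k : ℕ} (hk : 1 ≤ k)
    (hκ : Fintype.card κ = 2 ^ k) (W : Sylow 2 (GL κ F)) :
    ∃ P : Sylow 2 (GL (κ ⊕ κ) F), (P : Subgroup (GL (κ ⊕ κ) F)) = W1 (W : Subgroup (GL κ F)) := by
  haveI : Fact (Nat.Prime 2) := ⟨Nat.prime_two⟩
  haveI : Nonempty κ := Fintype.card_pos_iff.1 (by rw [hκ]; exact Nat.two_pow_pos k)
  have hq3 : 3 ≤ Fintype.card F := by have := Fintype.one_lt_card (α := F); omega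
  have hW : Nat.card (W : Subgroup (GL κ F)) = 2 ^ padicValNat 2 (Nat.card (GL κ F)) := by
    rw [W.card_eq_multiplicity, Nat.factorization_def _ Nat.prime_two]
  have hcard : Nat.card (W1 (W : Subgroup (GL κ F))) = 2 ^ (Nat.card (GL (κ ⊕ κ) F)).factorization 2 := by
    rw [card_W1, hW, Nat.factorization_def _ Nat.prime_two, card_GL_eq, card_GL_eq, Fintype.card_sum, hκ,
      glOrder_double (Nat.odd_iff.2 hodd) hq3 hk, pow_succ', two_mul (padicValNat 2 _), pow_add]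
  exact ⟨Sylow.ofCard _ hcard, rfl⟩

theorem block_of_commute (h2 : (2 : F) ≠ 0) {x : GL (κ ⊕ κ) F}
    (hu : x * emb ((-1 : GL κ F), 1) = emb ((-1 : GL κ F), 1) * x) : ∃ A D : GL κ F, x = emb (A, D) := by
  have key : ∀ y : GL (κ ⊕ κ) F, y * emb ((-1 : GL κ F), 1) = emb ((-1 : GL κ F), 1) * y →
      (y : Matrix (κ ⊕ κ) (κ ⊕ κ) F) =
        Matrix.fromBlocks (y : Matrix (κ ⊕ κ) (κ ⊕ κ) F).toBlocks₁₁ 0 0
          (y : Matrix (κ ⊕ κ) (κ ⊕ κ) F).toBlocks₂₂ := by
    intro y hy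
    have h := congrArg Units.val hy
    rw [Units.val_mul, Units.val_mul, emb_val, Units.val_neg, Units.val_one] at h
    set Y := (y : Matrix (κ ⊕ κ) (κ ⊕ κ) F)
    rw [← Matrix.fromBlocks_toBlocks Y, Matrix.fromBlocks_multiply, Matrix.fromBlocks_multiply] at h
    simp only [Matrix.mul_zero, Matrix.zero_mul, add_zero, zero_add, Matrix.mul_one, Matrix.one_mul,
      Matrix.mul_neg, Matrix.neg_mul] at h
    obtain ⟨-, hB, hC, -⟩ := Matrix.fromBlocks_inj.1 h
    conv_lhs => rw [← Matrix.fromBlocks_toBlocks Y]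
    congr 1
    · ext i j
      have hij := congrFun (congrFun hB i) j
      simp only [Matrix.neg_apply] at hij
      exact (mul_eq_zero.1 (show (2 : F) * Y.toBlocks₁₂ i j = 0 by linear_combination hij)).resolve_left h2
    · ext i j
      have hij := congrFun (congrFun hC i) j
      simp only [Matrix.neg_apply] at hij
      exact (mul_eq_zero.1 (show (2 : F) * Y.toBlocks₂₁ i j = 0 by linear_combination -hij)).resolve_left h2
  have hx := key x hu
  have hxi := key x⁻¹ ((show Commute x (emb ((-1 : GL κ F), 1)) from hu).inv_left).eq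
  set X := (x : Matrix (κ ⊕ κ) (κ ⊕ κ) F)
  set Z := ((x⁻¹ : GL (κ ⊕ κ) F) : Matrix (κ ⊕ κ) (κ ⊕ κ) F)
  have e1 : X * Z = 1 := congrArg Units.val (mul_inv_cancel x)
  have e2 : Z * X = 1 := congrArg Units.val (inv_mul_cancel x)
  rw [hx, hxi, Matrix.fromBlocks_multiply, ← Matrix.fromBlocks_one] at e1 e2
  simp only [Matrix.mul_zero, Matrix.zero_mul, add_zero, zero_add] at e1 e2
  obtain ⟨a1, -, -, a4⟩ := Matrix.fromBlocks_inj.1 e1
  obtain ⟨b1, -, -, b4⟩ := Matrix.fromBlocks_inj.1 e2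
  exact ⟨⟨_, _, a1, b1⟩, ⟨_, _, a4, b4⟩, Units.ext hx⟩

/-- The commutant of enough of `W ≀ 2` consists of scalars. -/
theorem scal_of_commute (h2 : (2 : F) ≠ 0) {W : Subgroup (GL κ F)}
    (hC : ∀ x : GL κ F, (∀ w ∈ W, Matrix.GeneralLinearGroup.det w = 1 → x * w = w * x) → IsScal x)
    {x : GL (κ ⊕ κ) F}
    (hw : ∀ w ∈ W, Matrix.GeneralLinearGroup.det w = 1 → x * emb (w, 1) = emb (w, 1) * x)
    (hu : x * emb ((-1 : GL κ F), 1) = emb ((-1 : GL κ F), 1) * x) (hs : x * sw = sw * x) : IsScal x := by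
  obtain ⟨A, D, rfl⟩ : ∃ A D : GL κ F, x = emb (A, D) := block_of_commute h2 hu
  have hD : D = A := by
    rw [sw_emb] at hs
    exact (Prod.ext_iff.1 (emb_injective (mul_right_cancel hs))).2
  obtain ⟨c, hc⟩ := hC A fun w hw' hd => by
    have := hw w hw' hd
    rw [← map_mul, ← map_mul] at this
    exact (Prod.ext_iff.1 (emb_injective this)).1
  refine ⟨c, ?_⟩
  rw [emb_val, hD, hc]
  ext (i | i) (j | j) <;> simp [Matrix.scalar_apply, Matrix.diagonal]

/-- An element of odd order normalising a large part of `W ≀ 2` is a scalar. -/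
theorem scal_of_normalizes [Fintype F] (h2 : (2 : F) ≠ 0) [Nonempty κ] {W : Sylow 2 (GL κ F)}
    (hN : ∀ a : GL κ F, (∀ w ∈ (W : Subgroup (GL κ F)), a * w * a⁻¹ ∈ (W : Subgroup (GL κ F))) →
      (∃ r : ℕ, r % 2 = 1 ∧ a ^ r = 1) → IsScal a)
    (hC : ∀ x : GL κ F, (∀ w ∈ (W : Subgroup (GL κ F)), Matrix.GeneralLinearGroup.det w = 1 →
      x * w = w * x) → IsScal x)
    (hns : ∃ w ∈ (W : Subgroup (GL κ F)), Matrix.GeneralLinearGroup.det w = 1 ∧ ¬ IsScal w)
    {S : Subgroup (GL (κ ⊕ κ) F)} (hS : S ≤ W1 (W : Subgroup (GL κ F)))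
    (hi : ∀ w ∈ (W : Subgroup (GL κ F)), Matrix.GeneralLinearGroup.det w = 1 → emb (w, 1) ∈ S)
    (hii : ∀ w ∈ (W : Subgroup (GL κ F)), emb (w, w⁻¹) ∈ S)
    (hiii : emb ((-1 : GL κ F), 1) ∈ S) (hiv : sw ∈ S)
    {a : GL (κ ⊕ κ) F} (ha : ∀ x ∈ S, a * x * a⁻¹ ∈ S) {r : ℕ} (hr : r % 2 = 1) (har : a ^ r = 1) :
    IsScal a := by
  haveI : Fact (Nat.Prime 2) := ⟨Nat.prime_two⟩
  set W' : Subgroup (GL κ F) := (W : Subgroup (GL κ F)) with hW'
  have hWp : ∀ w ∈ W', ∃ k, w ^ 2 ^ k = 1 := by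
    intro w hw
    obtain ⟨k, hk⟩ := W.isPGroup' ⟨w, hw⟩
    exact ⟨k, congrArg Subtype.val hk⟩
  have hai : ∀ x ∈ S, a⁻¹ * x * a ∈ S := by
    intro x hx
    have hmap : S.map (MulAut.conj a).toMonoidHom = S :=
      Subgroup.eq_of_le_of_card_ge (by rintro _ ⟨w, hw, rfl⟩; exact ha w hw)
        (by rw [Subgroup.card_map_of_injective (MulAut.conj a).injective])
    rw [← hmap] at hx
    obtain ⟨w, hw, rfl⟩ := hx
    simpa [mul_assoc] using hw
  set u : GL (κ ⊕ κ) F := emb ((-1 : GL κ F), 1) with hu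
  have hm1 : ∀ w : GL κ F, (-1 : GL κ F) * w = w * (-1) := fun w => by simp
  -- `u` is central modulo scalars
  have hucent : ∀ x ∈ S, IsScal (x * u * x⁻¹ * u⁻¹) := by
    intro x hx
    obtain ⟨b, -, c, -, rfl | rfl⟩ := hS hx
    · have : emb (b, c) * u = u * emb (b, c) := by
        rw [hu, ← map_mul, ← map_mul]; congr 1; ext1 <;> simp
      rw [this, mul_inv_cancel_right, mul_inv_cancel]
      exact isScal_one
    · have : emb (b, c) * sw * u * (emb (b, c) * sw)⁻¹ = emb (1, (-1 : GL κ F)) := by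
        rw [_root_.mul_inv_rev, sw_inv, hu, mul_assoc (emb (b, c)) sw, sw_emb, ← mul_assoc (emb (b, c)),
          mul_assoc _ sw, ← mul_assoc sw sw, sw_mul_self, one_mul, ← map_mul, ← map_inv, ← map_mul]
        congr 1
        ext1 <;> simp
      rw [this, hu, ← map_inv, ← map_mul]
      refine ⟨-1, ?_⟩
      rw [emb_val]
      ext (i | i) (j | j) <;> simp [Matrix.scalar_apply, Matrix.diagonal, Matrix.one_apply] <;>
        split_ifs <;> simp
  set v := a * u * a⁻¹ with hv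
  have hvS : v ∈ S := ha u hiii
  have hvcent : ∀ x ∈ S, IsScal (x * v * x⁻¹ * v⁻¹) := by
    intro x hx
    have h := hucent _ (hai x hx)
    have e : x * v * x⁻¹ * v⁻¹ = a * ((a⁻¹ * x * a) * u * (a⁻¹ * x * a)⁻¹ * u⁻¹) * a⁻¹ := by
      rw [hv]; group
    rw [e, ← h.commute a, mul_inv_cancel_right]
    exact h
  have hvns : ¬ IsScal v := by
    intro hs
    have : u = v := by
      have e := hs.commute a
      rw [hv, mul_assoc (a * u), inv_mul_cancel, mul_one] at e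
      have e2 : a * u = a * (a * u * a⁻¹) := e
      exact (mul_left_cancel e2).trans hv.symm
    rw [← this] at hs
    obtain ⟨i⟩ := ‹Nonempty κ›
    obtain ⟨c, hc⟩ := hs
    rw [hu, emb_val] at hc
    have h11 := congrFun (congrFun hc (Sum.inl i)) (Sum.inl i)
    have h22 := congrFun (congrFun hc (Sum.inr i)) (Sum.inr i)
    simp [Matrix.scalar_apply] at h11 h22
    exact h2 (by linear_combination h22 - h11)
  -- `v` is `± u` up to a scalar
  obtain ⟨b, hb, c, hc, hbc⟩ := hS hvS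
  obtain ⟨w, hw, hwd, hwns⟩ := hns
  have hiw : ∀ w ∈ W', Matrix.GeneralLinearGroup.det w = 1 → emb (1, w) ∈ S := by
    intro w hw hd
    have := S.mul_mem (S.mul_mem hiv (hi w hw hd)) hiv
    rwa [sw_emb, mul_assoc, sw_mul_self, mul_one] at this
  rcases hbc with hbc | hbc
  swap
  · exfalso
    obtain ⟨l, hl⟩ := hvcent _ (hi w hw hwd)
    rw [hbc, _root_.mul_inv_rev, sw_inv, ← map_inv, ← map_inv, Prod.inv_mk, Prod.inv_mk] at hl
    have e : emb (w, 1) * (emb (b, c) * sw) * emb (w⁻¹, 1⁻¹) * (sw * emb (b⁻¹, c⁻¹)) =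
        emb (w, c * w⁻¹ * c⁻¹) := by
      rw [mul_assoc _ (emb (b, c) * sw), mul_assoc (emb (b, c)), sw_emb, ← mul_assoc (emb (b, c)),
        mul_assoc _ _ (sw * emb (b⁻¹, c⁻¹)), mul_assoc _ sw, ← mul_assoc sw sw, sw_mul_self, one_mul,
        ← map_mul, ← map_mul, ← map_mul]
      congr 1
      ext1 <;> simp [mul_assoc]
    rw [e, emb_val] at hl
    refine hwns ⟨l, ?_⟩
    have := congrArg Matrix.toBlocks₁₁ hl
    rw [Matrix.toBlocks_fromBlocks₁₁] at this
    rw [this]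
    ext i j
    simp [Matrix.toBlocks₁₁, Matrix.scalar_apply, Matrix.diagonal]
  have hcomm : ∀ z : GL κ F, (∀ w ∈ W', Matrix.GeneralLinearGroup.det w = 1 →
      IsScal (emb (w * z * w⁻¹ * z⁻¹, 1))) → IsScal z := by
    intro z hz
    refine hC z fun w hw hd => ?_
    obtain ⟨l, hl⟩ := hz w hw hd
    rw [emb_val] at hl
    have h1 := congrArg Matrix.toBlocks₁₁ hl
    have h4 := congrArg Matrix.toBlocks₂₂ hl
    rw [Matrix.toBlocks_fromBlocks₁₁] at h1
    rw [Matrix.toBlocks_fromBlocks₂₂] at h4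
    have : w * z * w⁻¹ * z⁻¹ = 1 := by
      apply Units.ext
      rw [h1]
      ext i j
      have := congrFun (congrFun h4 i) j
      simp [Matrix.toBlocks₁₁, Matrix.toBlocks₂₂, Matrix.scalar_apply, Matrix.diagonal] at this ⊢
      exact this.symm
    rw [mul_inv_eq_one, mul_inv_eq_iff_eq_mul] at this
    exact this.symm
  have hbs : IsScal b := hcomm b fun w hw hd => by
    have h := hvcent _ (hi w hw hd)
    rw [hbc, ← map_inv, ← map_inv, ← map_mul, ← map_mul, ← map_mul] at h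
    simpa using h
  have hcs : IsScal c := by
    refine hcomm c fun w hw hd => ?_
    obtain ⟨l, hl⟩ := hvcent _ (hiw w hw hd)
    rw [hbc, ← map_inv, ← map_inv, ← map_mul, ← map_mul, ← map_mul] at hl
    refine ⟨l, ?_⟩
    rw [emb_val] at hl ⊢
    have h1 := congrArg Matrix.toBlocks₁₁ hl
    have h4 := congrArg Matrix.toBlocks₂₂ hl
    ext (i | i) (j | j)
    · have := congrFun (congrFun h4 i) j
      simpa [Matrix.toBlocks₂₂, Matrix.scalar_apply, Matrix.diagonal] using this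
    · simp [Matrix.scalar_apply, Matrix.diagonal]
    · simp [Matrix.scalar_apply, Matrix.diagonal]
    · have := congrFun (congrFun h1 i) j
      simpa [Matrix.toBlocks₁₁, Matrix.scalar_apply, Matrix.diagonal] using this
  obtain ⟨β, hβ⟩ := hbs
  obtain ⟨γ, hγ⟩ := hcs
  obtain ⟨i0⟩ := ‹Nonempty κ›
  have hβ0 : β ≠ 0 := fun z => by
    have hh := congrArg (fun M : Matrix κ κ F => M i0 i0) (show (b : Matrix κ κ F) * (b⁻¹ : GL κ F) = 1 from
      congrArg Units.val (mul_inv_cancel b))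
    rw [hβ, z] at hh
    simp at hh
  have hsq : γ ^ 2 = β ^ 2 := by
    obtain ⟨l, hl⟩ := hvcent sw hiv
    rw [sw_inv, hbc, sw_emb, mul_assoc (emb (c, b)), sw_mul_self, mul_one, ← map_inv, ← map_mul] at hl
    have hgen : (emb ((c, b) * (b, c)⁻¹) * emb (b, c) : GL (κ ⊕ κ) F) = emb (c, b) := by
      rw [← map_mul, inv_mul_cancel_right]
    have hh := congrArg Units.val hgen
    rw [Units.val_mul, hl, emb_val, emb_val, hβ, hγ] at hh
    have h11 := congrFun (congrFun hh (Sum.inl i0)) (Sum.inl i0)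
    have h22 := congrFun (congrFun hh (Sum.inr i0)) (Sum.inr i0)
    simp [Matrix.scalar_apply] at h11 h22
    linear_combination β * h22 + (-γ) * h11
  have hγβ : γ = -β := by
    rcases sq_eq_sq_iff_eq_or_eq_neg.1 hsq with h | h
    · exfalso
      refine hvns ⟨β, ?_⟩
      rw [hbc, emb_val, hβ, hγ, h]
      ext (i | i) (j | j) <;> simp [Matrix.scalar_apply, Matrix.diagonal]
    · exact h
  have hz : IsScal (v * u⁻¹) := by
    refine ⟨-β, ?_⟩
    rw [hbc, hu, ← map_inv, ← map_mul, emb_val]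
    ext (i | i) (j | j) <;>
      simp [hβ, hγ, hγβ, Matrix.scalar_apply, Matrix.diagonal, Matrix.mul_apply, Matrix.one_apply] <;>
      split_ifs <;> simp
  set z := v * u⁻¹ with hzdef
  have hpow : ∀ n : ℕ, a ^ n * u * (a ^ n)⁻¹ = z ^ n * u := by
    intro n
    induction n with
    | zero => simp
    | succ n ih =>
      calc a ^ (n + 1) * u * (a ^ (n + 1))⁻¹ = a * (a ^ n * u * (a ^ n)⁻¹) * a⁻¹ := by rw [pow_succ']; group
        _ = a * z ^ n * (u * a⁻¹) := by rw [ih]; group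
        _ = z ^ n * a * (u * a⁻¹) := by rw [((show Commute z a from hz.commute a).pow_left n).eq]
        _ = z ^ n * v := by rw [hv]; group
        _ = z ^ n * (z * u) := by rw [hzdef]; group
        _ = z ^ (n + 1) * u := by rw [pow_succ]; group
  have hzr : z ^ r = 1 := by
    have := hpow r
    rw [har, one_mul, inv_one, mul_one] at this
    exact mul_eq_right.1 this.symm
  have hu2 : u * u = 1 := by
    rw [hu, ← map_mul]
    have : ((-1 : GL κ F), (1 : GL κ F)) * (-1, 1) = 1 := by ext1 <;> simp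
    rw [this, map_one]
  have hz2 : z ^ 2 ^ 1 = 1 := by
    have e : z * u = v := by rw [hzdef, inv_mul_cancel_right]
    have e2 : v * v = 1 := by rw [hv]; simp [mul_assoc, hu2]; simp [← mul_assoc, hu2]
    rw [← e, mul_assoc z u, ← mul_assoc u z, ← hz.commute u, mul_assoc z u u, hu2, mul_one] at e2
    rw [pow_one, pow_two]; exact e2
  have hz1 : z = 1 := odd_two_power hr hzr hz2
  have hau : a * u = u * a := by
    rw [hzdef, hv, mul_inv_eq_one, mul_inv_eq_iff_eq_mul] at hz1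
    exact hz1
  obtain ⟨A, D, rfl⟩ := block_of_commute h2 hau
  rw [← map_pow, Prod.pow_mk, ← map_one (emb : GL κ F × GL κ F →* GL (κ ⊕ κ) F)] at har
  obtain ⟨hAr, hDr⟩ := Prod.ext_iff.1 (emb_injective har)
  simp only [Prod.fst_one, Prod.snd_one] at hAr hDr
  have hmemW : ∀ p q : GL κ F, emb (p, q) ∈ S → p ∈ W' ∧ q ∈ W' := by
    intro p q h
    obtain ⟨b', hb', c', hc', e | e⟩ := hS h
    · obtain ⟨rfl, rfl⟩ := Prod.ext_iff.1 (emb_injective e)
      exact ⟨hb', hc'⟩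
    · exact absurd e (emb_ne_sw _ _ _ _)
  have hAD : ∀ w ∈ W', A * w * A⁻¹ ∈ W' ∧ D * w * D⁻¹ ∈ W' := by
    intro w hw
    refine ⟨?_, ?_⟩
    · have := ha _ (hii w hw)
      rw [← map_inv, ← map_mul, ← map_mul] at this
      exact (hmemW _ _ this).1
    · have := ha _ (hii w⁻¹ (W'.inv_mem hw))
      rw [← map_inv, ← map_mul, ← map_mul] at this
      simpa using (hmemW _ _ this).2
  have hAs := hN A (fun w hw => (hAD w hw).1) ⟨r, hr, hAr⟩
  have hDs := hN D (fun w hw => (hAD w hw).2) ⟨r, hr, hDr⟩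
  have hquo : A * D⁻¹ = 1 := by
    have := S.mul_mem (ha sw hiv) hiv
    rw [← map_inv, Prod.inv_mk, mul_assoc (emb (A, D)), sw_emb, ← mul_assoc, mul_assoc _ sw sw,
      sw_mul_self, mul_one, ← map_mul, Prod.mk_mul_mk] at this
    obtain ⟨k, hk⟩ := hWp _ (hmemW _ _ this).1
    refine odd_two_power hr ?_ hk
    rw [Commute.mul_pow (show Commute A D⁻¹ from hAs.commute _), hAr, inv_pow, hDr]
    simp
  obtain rfl : A = D := by rwa [mul_inv_eq_one] at hquo
  obtain ⟨α, hα⟩ := hAs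
  refine ⟨α, ?_⟩
  rw [emb_val, hα]
  ext (i | i) (j | j) <;> simp [Matrix.scalar_apply, Matrix.diagonal]

end Cfsg.Agent.Lib.SLOddIndex
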