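import Cfsg.Agent.Lib.GLFlags.Bruhat
import Cfsg.Agent.Lib.SymSylow.Pronormal
import Mathlib

/-! Odd index subgroups of `PSL_n(q)`, `q` even, are pronormal. -/

set_option autoImplicit false
set_option linter.unusedSectionVars false

namespace Cfsg.Agent.Lib.SLOddIndex

open Matrix

variable {n : ℕ} {F : Type*} [Field F]

/-- A monomial matrix. -/
def mon (σ : Equiv.Perm (Fin n)) (d : Fin n → F) : Matrix (Fin n) (Fin n) F :=
  Matrix.of fun i j => if i = σ j then d j else 0

theorem mul_mon (A : Matrix (Fin n) (Fin n) F) (σ : Equiv.Perm (Fin n)) (d : Fin n → F) (i j : Fin n) :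
    (A * mon σ d) i j = A i (σ j) * d j := by
  simp [mon, Matrix.mul_apply]

theorem mon_mul (A : Matrix (Fin n) (Fin n) F) (σ : Equiv.Perm (Fin n)) (d : Fin n → F) (k j : Fin n) :
    (mon σ d * A) (σ k) j = d k * A k j := by
  simp [mon, Matrix.mul_apply]

theorem mon_mul_mon (σ τ : Equiv.Perm (Fin n)) (d e : Fin n → F) :
    mon σ d * mon τ e = mon (σ * τ) fun j => d (τ j) * e j := by
  ext i j
  rw [mul_mon]
  simp [mon, Equiv.Perm.mul_apply]
  congr

theorem diagonal_eq_mon (d : Fin n → F) : Matrix.diagonal d = mon 1 d := by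
  ext i j
  by_cases h : i = j
  · subst h; simp [mon]
  · simp [mon, h]

theorem pm_eq_mon (σ : Equiv.Perm (Fin n)) :
    (Cfsg.Agent.Lib.GLFlags.pm σ : Matrix (Fin n) (Fin n) F) = mon σ 1 := by
  ext i j
  simp [Cfsg.Agent.Lib.GLFlags.pm, mon]

theorem mon_mul_transvection (σ : Equiv.Perm (Fin n)) {d : Fin n → F} (hd : ∀ j, d j ≠ 0)
    (a b : Fin n) (hab' : a ≠ b) (c : F) :
    mon σ d * Matrix.transvection a b c =
      Matrix.transvection (σ a) (σ b) (d a * c * (d b)⁻¹) * mon σ d := by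
  ext i j
  obtain ⟨k, rfl⟩ := σ.surjective i
  rw [mon_mul, mul_mon]
  simp only [Matrix.transvection, Matrix.add_apply, Matrix.one_apply, Matrix.single_apply,
    EmbeddingLike.apply_eq_iff_eq]
  by_cases hkj : k = j
  · subst hkj
    have hab : ¬ (a = k ∧ b = k) := fun z => hab' (z.1.trans z.2.symm)
    simp [hab]
  · by_cases hab : a = k ∧ b = j
    · obtain ⟨rfl, rfl⟩ := hab
      simp only [hkj, and_self, if_true, if_false]
      field_simp [hd b]
      simp
    · simp [hkj, hab]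

/-- A transvection in `SL`. -/
def X (a b : Fin n) (hab : a ≠ b) (c : F) : Matrix.SpecialLinearGroup (Fin n) F :=
  ⟨Matrix.transvection a b c, Matrix.det_transvection_of_ne a b hab c⟩

theorem upper_diag_mul {A B : Matrix (Fin n) (Fin n) F} (hA : A.BlockTriangular id)
    (hB : B.BlockTriangular id) (i : Fin n) : (A * B) i i = A i i * B i i := by
  rw [Matrix.mul_apply, Finset.sum_eq_single i]
  · intro k _ hk
    rcases lt_or_gt_of_ne hk with h | h
    · rw [hA h, zero_mul]
    · rw [hB h, mul_zero]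
  · simp

variable (n F) in
/-- The upper unitriangular subgroup. -/
def U [Fintype F] : Subgroup (Matrix.SpecialLinearGroup (Fin n) F) where
  carrier := {g | g.1.BlockTriangular id ∧ ∀ i, g.1 i i = 1}
  one_mem' := ⟨Matrix.blockTriangular_one, fun i => by simp⟩
  mul_mem' := fun {a b} ha hb => ⟨ha.1.mul hb.1, fun i => by
    show (a.1 * b.1) i i = 1
    rw [upper_diag_mul ha.1 hb.1, ha.2, hb.2, mul_one]⟩
  inv_mem' := fun {a} ha => by
    have h : a⁻¹ = a ^ (orderOf a - 1) := by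
      rw [inv_eq_of_mul_eq_one_right]
      rw [← pow_succ', Nat.sub_add_cancel (orderOf_pos a), pow_orderOf_eq_one]
    rw [h]
    induction orderOf a - 1 with
    | zero => exact ⟨Matrix.blockTriangular_one, fun i => by simp⟩
    | succ k ih =>
      rw [pow_succ]
      refine ⟨ih.1.mul ha.1, fun i => ?_⟩
      show ((a ^ k).1 * a.1) i i = 1
      rw [upper_diag_mul ih.1 ha.1, ih.2, ha.2, mul_one]

variable [Fintype F]

theorem X_mem_U {a b : Fin n} (hab : a < b) (c : F) : X a b hab.ne c ∈ U n F := by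
  refine ⟨fun i j hij => ?_, fun i => ?_⟩
  · simp only [id] at hij
    show Matrix.transvection a b c i j = 0
    have : ¬ (a = i ∧ b = j) := by rintro ⟨rfl, rfl⟩; exact absurd hab (not_lt.2 hij.le)
    simp [Matrix.transvection, Matrix.one_apply, hij.ne', this]
  · show Matrix.transvection a b c i i = 1
    have : ¬ (a = i ∧ b = i) := by rintro ⟨rfl, rfl⟩; exact lt_irrefl _ hab
    simp [Matrix.transvection, this]

/-- Bruhat decomposition with unitriangular outer factors. -/
theorem exists_decomp (g : Matrix.SpecialLinearGroup (Fin n) F) :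
    ∃ u ∈ U n F, ∃ u' ∈ U n F, ∃ x : Matrix.SpecialLinearGroup (Fin n) F,
      ∃ σ : Equiv.Perm (Fin n), ∃ d : Fin n → F, (∀ j, d j ≠ 0) ∧ x.1 = mon σ d ∧ g = u * x * u' := by
  obtain ⟨A, B, σ, hA, hB, hAB⟩ :=
    Cfsg.Agent.Lib.GLFlags.exists_upper_mul_perm_mul_upper n g.1 (by rw [g.2]; exact one_ne_zero)
  have hdp : (Cfsg.Agent.Lib.GLFlags.pm σ : Matrix (Fin n) (Fin n) F).det ≠ 0 :=
    fun z => (Cfsg.Agent.Lib.GLFlags.pmGL (F := F) σ).det_ne_zero z
  have hdA : A.det ≠ 0 := fun z => hdp (by rw [← hAB, Matrix.det_mul, Matrix.det_mul, z, zero_mul, zero_mul])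
  have hdB : B.det ≠ 0 := fun z => hdp (by rw [← hAB, Matrix.det_mul, z, mul_zero])
  haveI : Invertible A := Matrix.invertibleOfIsUnitDet A (isUnit_iff_ne_zero.2 hdA)
  haveI : Invertible B := Matrix.invertibleOfIsUnitDet B (isUnit_iff_ne_zero.2 hdB)
  have hAi : A⁻¹.BlockTriangular id := Matrix.blockTriangular_inv_of_blockTriangular hA
  have hBi : B⁻¹.BlockTriangular id := Matrix.blockTriangular_inv_of_blockTriangular hB
  set α : Fin n → F := fun i => A⁻¹ i i with hα
  set β : Fin n → F := fun i => B⁻¹ i i with hβ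
  have hnz : ∀ {C : Matrix (Fin n) (Fin n) F}, C.BlockTriangular id → C.det ≠ 0 → ∀ i, C i i ≠ 0 := by
    intro C hC hd i
    rw [Matrix.det_of_upperTriangular hC, Finset.prod_ne_zero_iff] at hd
    exact hd i (Finset.mem_univ i)
  have hα0 : ∀ i, α i ≠ 0 := hnz (C := A⁻¹) hAi (by rw [Matrix.det_nonsing_inv, Ring.inverse_eq_inv']; exact inv_ne_zero hdA)
  have hβ0 : ∀ i, β i ≠ 0 := hnz (C := B⁻¹) hBi (by rw [Matrix.det_nonsing_inv, Ring.inverse_eq_inv']; exact inv_ne_zero hdB)
  set u := A⁻¹ * Matrix.diagonal (fun i => (α i)⁻¹) with hu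
  set u' := Matrix.diagonal (fun i => (β i)⁻¹) * B⁻¹ with hu'
  have hu1 : u.BlockTriangular id := hAi.mul (Matrix.blockTriangular_diagonal _)
  have hu'1 : u'.BlockTriangular id := (Matrix.blockTriangular_diagonal _).mul hBi
  have hu2 : ∀ i, u i i = 1 := fun i => by
    rw [hu, Matrix.mul_diagonal]; exact mul_inv_cancel₀ (hα0 i)
  have hu'2 : ∀ i, u' i i = 1 := fun i => by
    rw [hu', Matrix.diagonal_mul]; exact inv_mul_cancel₀ (hβ0 i)
  have hud : u.det = 1 := by rw [Matrix.det_of_upperTriangular hu1]; simp [hu2]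
  have hu'd : u'.det = 1 := by rw [Matrix.det_of_upperTriangular hu'1]; simp [hu'2]
  set x := mon σ fun j => α (σ j) * β j with hx
  have hg : g.1 = u * x * u' := by
    have e1 : g.1 = A⁻¹ * mon σ 1 * B⁻¹ := by
      rw [← pm_eq_mon, ← hAB]; simp [Matrix.mul_assoc]
    have e2 : x = Matrix.diagonal α * mon σ 1 * Matrix.diagonal β := by
      rw [hx, diagonal_eq_mon, diagonal_eq_mon, mon_mul_mon, mon_mul_mon]
      simp
    have e3 : Matrix.diagonal (fun i => (α i)⁻¹) * Matrix.diagonal α = 1 := by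
      rw [Matrix.diagonal_mul_diagonal]; simp [hα0]
    have e4 : Matrix.diagonal β * Matrix.diagonal (fun i => (β i)⁻¹) = 1 := by
      rw [Matrix.diagonal_mul_diagonal]; simp [hβ0]
    calc g.1 = A⁻¹ * (Matrix.diagonal (fun i => (α i)⁻¹) * Matrix.diagonal α) * mon σ 1 *
          ((Matrix.diagonal β * Matrix.diagonal (fun i => (β i)⁻¹)) * B⁻¹) := by
          rw [e3, e4, Matrix.mul_one, Matrix.one_mul, e1]
      _ = u * x * u' := by rw [e2, hu, hu']; simp only [Matrix.mul_assoc]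
  refine ⟨⟨u, hud⟩, ⟨hu1, hu2⟩, ⟨u', hu'd⟩, ⟨hu'1, hu'2⟩, ⟨x, ?_⟩, σ, _,
    fun j => mul_ne_zero (hα0 _) (hβ0 _), rfl, Subtype.ext hg⟩
  have := congrArg Matrix.det hg
  rw [g.2, Matrix.det_mul, Matrix.det_mul, hud, hu'd, one_mul, mul_one] at this
  exact this.symm

theorem conj_X {x : Matrix.SpecialLinearGroup (Fin n) F} {σ : Equiv.Perm (Fin n)} {d : Fin n → F}
    (hd : ∀ j, d j ≠ 0) (hx : x.1 = mon σ d) (a b : Fin n) (hab : a ≠ b) (c : F) :
    x * X a b hab c * x⁻¹ = X (σ a) (σ b) (σ.injective.ne hab) (d a * c * (d b)⁻¹) := by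
  rw [mul_inv_eq_iff_eq_mul]
  apply Subtype.ext
  show x.1 * Matrix.transvection a b c = Matrix.transvection (σ a) (σ b) _ * x.1
  rw [hx, mon_mul_transvection σ hd a b hab]

theorem eq_one_of_mono (σ : Equiv.Perm (Fin n)) (h : ∀ a b, a < b → σ a < σ b) : σ = 1 := by
  ext i
  have hm : StrictMono σ := fun a b => h a b
  have hm' : StrictMono σ.symm := fun a b hab => hm.lt_iff_lt.1 (by simpa using hab)
  rw [Equiv.Perm.one_apply]
  congr 1
  have h1 : i ≤ σ i := hm.le_apply
  have h2 : σ i ≤ σ.symm (σ i) := hm'.le_apply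
  rw [Equiv.symm_apply_apply] at h2
  exact le_antisymm h2 h1

theorem exists_inversion {σ : Equiv.Perm (Fin n)} (hσ : σ ≠ 1) : ∃ a b, a < b ∧ σ b < σ a := by
  by_contra hc
  push Not at hc
  exact hσ (eq_one_of_mono σ fun a b hab =>
    lt_of_le_of_ne (hc a b hab) (σ.injective.ne hab.ne))

variable [CharP F 2]

theorem swap_eq {i k : Fin n} (hik : i ≠ k) :
    (X i k hik (1 : F) * X k i hik.symm 1 * X i k hik 1).1 = mon (Equiv.swap i k) 1 := by
  show Matrix.transvection i k (1 : F) * Matrix.transvection k i 1 * Matrix.transvection i k 1 = _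
  have h2 : (1 : F) + 1 = 0 := CharTwo.add_self_eq_zero 1
  ext a b
  by_cases hb : b = k
  · subst hb
    rw [Matrix.mul_transvection_apply_same, Matrix.mul_transvection_apply_same,
      Matrix.mul_transvection_apply_of_ne _ _ _ _ hik.symm]
    simp only [Matrix.transvection, Matrix.add_apply, Matrix.one_apply, Matrix.single_apply, mon,
      Matrix.of_apply, Equiv.swap_apply_right, Pi.one_apply]
    rcases eq_or_ne a i with rfl | h1
    · simp [hik, hik.symm, CharTwo.add_self_eq_zero]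
    · rcases eq_or_ne a b with rfl | h3
      · simp [hik, hik.symm, CharTwo.add_self_eq_zero]
      · simp [h1, h1.symm, h3, h3.symm]
  · rw [Matrix.mul_transvection_apply_of_ne _ _ _ _ hb]
    by_cases hbi : b = i
    · subst hbi
      rw [Matrix.mul_transvection_apply_same]
      simp only [Matrix.transvection, Matrix.add_apply, Matrix.one_apply, Matrix.single_apply, mon,
        Matrix.of_apply, Equiv.swap_apply_left, Pi.one_apply]
      rcases eq_or_ne a b with rfl | h1
      · simp [hik, hik.symm, CharTwo.add_self_eq_zero]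
      · rcases eq_or_ne a k with rfl | h3
        · simp [hik, hik.symm, CharTwo.add_self_eq_zero]
        · simp [h1, h1.symm, h3, h3.symm]
    · rw [Matrix.mul_transvection_apply_of_ne _ _ _ _ hbi]
      simp only [Matrix.transvection, Matrix.add_apply, Matrix.one_apply, Matrix.single_apply, mon,
        Matrix.of_apply, Equiv.swap_apply_of_ne_of_ne hbi hb, Pi.one_apply]
      have : ¬ (i = a ∧ k = b) := fun z => hb z.2.symm
      simp [this]

/-- The potential used for the induction. -/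
def score (σ : Equiv.Perm (Fin n)) : ℕ := ∑ j : Fin n, (j : ℕ) * (σ j : ℕ)

theorem score_le (σ : Equiv.Perm (Fin n)) : score σ ≤ n * (n * n) := by
  have : ∀ j ∈ (Finset.univ : Finset (Fin n)), (j : ℕ) * (σ j : ℕ) ≤ n * n := fun j _ =>
    Nat.mul_le_mul j.2.le (σ j).2.le
  refine (Finset.sum_le_card_nsmul _ _ _ this).trans ?_
  simp

theorem score_lt {σ : Equiv.Perm (Fin n)} {a b : Fin n} (hab : a < b) (h : σ b < σ a) :
    score σ < score (Equiv.swap (σ a) (σ b) * σ) := by
  have hrest : ∀ j ∈ (Finset.univ.erase a).erase b,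
      (j : ℕ) * ((Equiv.swap (σ a) (σ b) * σ) j : ℕ) = (j : ℕ) * (σ j : ℕ) := by
    intro j hj
    simp only [Finset.mem_erase] at hj
    rw [Equiv.Perm.mul_apply, Equiv.swap_apply_of_ne_of_ne (σ.injective.ne hj.2.1) (σ.injective.ne hj.1)]
  unfold score
  rw [← Finset.add_sum_erase _ _ (Finset.mem_univ a),
    ← Finset.add_sum_erase _ _ (Finset.mem_erase.2 ⟨hab.ne', Finset.mem_univ b⟩),
    ← Finset.add_sum_erase (Finset.univ) (fun j : Fin n => (j : ℕ) * ((Equiv.swap (σ a) (σ b) * σ) j : ℕ))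
      (Finset.mem_univ a),
    ← Finset.add_sum_erase (Finset.univ.erase a) (fun j : Fin n => (j : ℕ) * ((Equiv.swap (σ a) (σ b) * σ) j : ℕ))
      (Finset.mem_erase.2 ⟨hab.ne', Finset.mem_univ b⟩),
    Finset.sum_congr rfl hrest, Equiv.Perm.mul_apply, Equiv.Perm.mul_apply, Equiv.swap_apply_left,
    Equiv.swap_apply_right]
  have h1 : (a : ℕ) < b := hab
  have h2 : (σ b : ℕ) < σ a := h
  nlinarith [h1, h2]

variable {H : Subgroup (Matrix.SpecialLinearGroup (Fin n) F)}

/-- An overgroup of the unitriangular group is normalised by the diagonal group. -/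
theorem diag_conj_mem (hU : U n F ≤ H) {t : Matrix.SpecialLinearGroup (Fin n) F} {e : Fin n → F}
    (he : ∀ j, e j ≠ 0) (ht : t.1 = mon 1 e) :
    ∀ k : ℕ, ∀ x : Matrix.SpecialLinearGroup (Fin n) F, x ∈ H → ∀ σ d, (∀ j, d j ≠ 0) →
      x.1 = mon σ d → n * (n * n) - score σ ≤ k → t * x * t⁻¹ ∈ H := by
  intro k
  induction k using Nat.strong_induction_on with
  | _ k ih =>
    intro x hxH σ d hd hx hk
    by_cases hσ : σ = 1
    · subst hσ
      have : t * x = x * t := Subtype.ext (by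
        show t.1 * x.1 = x.1 * t.1
        rw [ht, hx, mon_mul_mon, mon_mul_mon]
        congr 1
        funext j
        simp [mul_comm])
      rw [this, mul_inv_cancel_right]
      exact hxH
    obtain ⟨a, b, hab, hba⟩ := exists_inversion hσ
    set i := σ b with hi
    set l := σ a with hl
    have hup : ∀ c, X i l hba.ne c ∈ H := fun c => hU (X_mem_U hba c)
    have hdown : ∀ c, X l i hba.ne' c ∈ H := by
      intro c
      have := H.mul_mem (H.mul_mem hxH (hU (X_mem_U hab ((d a)⁻¹ * c * d b)))) (H.inv_mem hxH)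
      rw [conj_X hd hx] at this
      convert this using 2
      field_simp [hd a, hd b]
    have htX : ∀ p q (hpq : p ≠ q) c, (∀ c', X p q hpq c' ∈ H) → t * X p q hpq c * t⁻¹ ∈ H := by
      intro p q hpq c hc
      rw [conj_X he ht]
      exact hc _
    set w := X i l hba.ne (1 : F) * X l i hba.ne' 1 * X i l hba.ne 1 with hw
    have hwH : w ∈ H := H.mul_mem (H.mul_mem (hup 1) (hdown 1)) (hup 1)
    have htw : t * w * t⁻¹ ∈ H := by
      have : t * w * t⁻¹ = t * X i l hba.ne 1 * t⁻¹ * (t * X l i hba.ne' 1 * t⁻¹) * (t * X i l hba.ne 1 * t⁻¹) := by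
        rw [hw]; group
      rw [this]
      exact H.mul_mem (H.mul_mem (htX _ _ _ _ hup) (htX _ _ _ _ hdown)) (htX _ _ _ _ hup)
    have hwinv : w⁻¹ = w := by
      apply inv_eq_of_mul_eq_one_right
      apply Subtype.ext
      show w.1 * w.1 = 1
      rw [swap_eq, mon_mul_mon, Equiv.swap_mul_self, ← Matrix.diagonal_one, diagonal_eq_mon]
      congr 1
      funext j
      simp
    have hx' : (w * x).1 = mon (Equiv.swap l i * σ) d := by
      show w.1 * x.1 = _
      rw [swap_eq, hx, mon_mul_mon, Equiv.swap_comm]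
      congr 1
      funext j
      simp
    have hlt : score σ < score (Equiv.swap l i * σ) := score_lt hab hba
    have hle := score_le (Equiv.swap l i * σ)
    have := ih (n * (n * n) - score (Equiv.swap l i * σ)) (by omega) (w * x) (H.mul_mem hwH hxH) _ d hd hx' le_rfl
    have e : t * x * t⁻¹ = (t * w * t⁻¹) * (t * (w * x) * t⁻¹) := by
      rw [show (t * w * t⁻¹) * (t * (w * x) * t⁻¹) = t * (w * w) * x * t⁻¹ by group,
        show w * w = 1 by nth_rewrite 1 [← hwinv]; exact inv_mul_cancel w, mul_one]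
    rw [e]
    exact H.mul_mem htw this

theorem conj_mem_U {t : Matrix.SpecialLinearGroup (Fin n) F} {e : Fin n → F} (he : ∀ j, e j ≠ 0)
    (ht : t.1 = mon 1 e) {u : Matrix.SpecialLinearGroup (Fin n) F} (hu : u ∈ U n F) :
    t * u * t⁻¹ ∈ U n F := by
  have hd : t.1 = Matrix.diagonal e := by rw [ht, diagonal_eq_mon]
  have hti : (t⁻¹).1 = Matrix.diagonal fun i => (e i)⁻¹ := by
    have h1 : t.1 * (t⁻¹).1 = 1 := congrArg Subtype.val (mul_inv_cancel t)
    have h2 : Matrix.diagonal (fun i => (e i)⁻¹) * t.1 = 1 := by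
      rw [hd, Matrix.diagonal_mul_diagonal]; simp [he]
    calc (t⁻¹).1 = Matrix.diagonal (fun i => (e i)⁻¹) * t.1 * (t⁻¹).1 := by rw [h2, Matrix.one_mul]
      _ = _ := by rw [Matrix.mul_assoc, h1, Matrix.mul_one]
  have hv : (t * u * t⁻¹).1 = Matrix.diagonal e * u.1 * Matrix.diagonal fun i => (e i)⁻¹ := by
    rw [← hd, ← hti]; rfl
  refine ⟨?_, fun i => ?_⟩
  · rw [hv]
    exact ((Matrix.blockTriangular_diagonal _).mul hu.1).mul (Matrix.blockTriangular_diagonal _)
  · rw [hv, Matrix.mul_diagonal, Matrix.diagonal_mul, hu.2, mul_one, mul_inv_cancel₀ (he i)]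

/-- An element normalising `U` is a product of elements of `U` and a diagonal element. -/
theorem normalizer_U {g : Matrix.SpecialLinearGroup (Fin n) F}
    (hg : ∀ u ∈ U n F, g * u * g⁻¹ ∈ U n F) :
    ∃ u ∈ U n F, ∃ t : Matrix.SpecialLinearGroup (Fin n) F, ∃ e : Fin n → F,
      (∀ j, e j ≠ 0) ∧ t.1 = mon 1 e ∧ g = u * t := by
  obtain ⟨u, hu, u', hu', x, σ, d, hd, hx, rfl⟩ := exists_decomp g
  have hσ : σ = 1 := by
    by_contra hσ
    obtain ⟨a, b, hab, hba⟩ := exists_inversion hσ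
    have h1 := hg (u'⁻¹ * X a b hab.ne 1 * u') ((U n F).mul_mem ((U n F).mul_mem
      ((U n F).inv_mem hu') (X_mem_U hab 1)) hu')
    have h2 := (U n F).mul_mem ((U n F).mul_mem ((U n F).inv_mem hu) h1) hu
    rw [show u⁻¹ * (u * x * u' * (u'⁻¹ * X a b hab.ne 1 * u') * (u * x * u')⁻¹) * u =
      x * X a b hab.ne 1 * x⁻¹ by group, conj_X hd hx] at h2
    have h3 : Matrix.transvection (σ a) (σ b) (d a * 1 * (d b)⁻¹) (σ a) (σ b) = 0 := h2.1 hba
    simp [Matrix.transvection, Matrix.one_apply, hba.ne', hd a, hd b] at h3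
  subst hσ
  refine ⟨u * (x * u' * x⁻¹), (U n F).mul_mem hu (conj_mem_U hd hx hu'), x, d, hd, hx, ?_⟩
  group

/-- The elements normalising `U` normalise each of its overgroups. -/
theorem conj_mem_of_normalizes (hU : U n F ≤ H) {g : Matrix.SpecialLinearGroup (Fin n) F}
    (hg : ∀ u ∈ U n F, g * u * g⁻¹ ∈ U n F) {y : Matrix.SpecialLinearGroup (Fin n) F} (hy : y ∈ H) :
    g * y * g⁻¹ ∈ H := by
  obtain ⟨u, hu, t, e, he, ht, rfl⟩ := normalizer_U hg
  obtain ⟨v, hv, v', hv', x, σ, d, hd, hx, rfl⟩ := exists_decomp y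
  have hxH : x ∈ H := by
    have := H.mul_mem (H.mul_mem (H.inv_mem (hU hv)) hy) (H.inv_mem (hU hv'))
    simpa [mul_assoc] using this
  have h1 := diag_conj_mem hU he ht _ x hxH σ d hd hx le_rfl
  have e1 : u * t * (v * x * v') * (u * t)⁻¹ =
      u * ((t * v * t⁻¹) * (t * x * t⁻¹) * (t * v' * t⁻¹)) * u⁻¹ := by group
  rw [e1]
  exact H.mul_mem (H.mul_mem (hU hu) (H.mul_mem (H.mul_mem (hU (conj_mem_U he ht hv)) h1)
    (hU (conj_mem_U he ht hv')))) (H.inv_mem (hU hu))

theorem eq_one_of_two_power {x : F} {k : ℕ} (hx : x ^ 2 ^ k = 1) : x = 1 := by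
  haveI : Fact (Nat.Prime 2) := ⟨Nat.prime_two⟩
  have : (x - 1) ^ 2 ^ k = 0 := by rw [sub_pow_char_pow, hx, one_pow, sub_self]
  exact sub_eq_zero.1 (pow_eq_zero_iff (by positivity) |>.1 this)

theorem diag_two_power {t : Matrix.SpecialLinearGroup (Fin n) F} {e : Fin n → F}
    (ht : t.1 = mon 1 e) {k : ℕ} (hk : t ^ 2 ^ k = 1) : t = 1 := by
  have h1 : (Matrix.diagonal e) ^ 2 ^ k = 1 := by
    rw [diagonal_eq_mon, ← ht, ← Matrix.SpecialLinearGroup.coe_pow, hk]; rfl
  rw [Matrix.diagonal_pow, ← Matrix.diagonal_one] at h1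
  apply Subtype.ext
  show t.1 = 1
  rw [ht, ← diagonal_eq_mon, ← Matrix.diagonal_one]
  congr 1
  funext i
  exact eq_one_of_two_power (congrFun (Matrix.diagonal_injective h1) i)

theorem pow_eq_one_of_mem_U : ∀ u ∈ U n F, ∃ k : ℕ, u ^ 2 ^ k = 1 := by
  intro u hu
  haveI : Fact (Nat.Prime 2) := ⟨Nat.prime_two⟩
  set N := u.1 - 1 with hN
  have hnil : N ^ n = 0 := by
    have hlow : ∀ (k : ℕ) (i j : Fin n), (j : ℕ) < i + k → (N ^ k) i j = 0 := by
      intro k
      induction k with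
      | zero =>
        intro i j hij
        rw [pow_zero, Matrix.one_apply_ne]
        rintro rfl; omega
      | succ k ih =>
        intro i j hij
        rw [pow_succ, Matrix.mul_apply]
        refine Finset.sum_eq_zero fun l _ => ?_
        by_cases hl : (l : ℕ) < i + k
        · rw [ih i l hl, zero_mul]
        · have : N l j = 0 := by
            rw [hN, Matrix.sub_apply]
            rcases lt_trichotomy (j : ℕ) l with hjl | hjl | hjl
            · rw [hu.1 (show id j < id l from hjl), Matrix.one_apply_ne, sub_zero]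
              rintro rfl; omega
            · have : j = l := Fin.ext hjl
              subst this; rw [hu.2, Matrix.one_apply_eq, sub_self]
            · omega
          rw [this, mul_zero]
    ext i j
    exact hlow n i j (by omega)
  refine ⟨n, Subtype.ext ?_⟩
  show (u ^ 2 ^ n).1 = 1
  rw [Matrix.SpecialLinearGroup.coe_pow]
  rcases Nat.eq_zero_or_pos n with h0 | hpos
  · subst h0; ext i; exact i.elim0
  haveI : Nonempty (Fin n) := ⟨⟨0, hpos⟩⟩
  have h2 : N ^ 2 ^ n = 0 := by
    rw [← Nat.sub_add_cancel (Nat.lt_two_pow_self (n := n)).le, pow_add, hnil, mul_zero]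
  haveI : CharP (Matrix (Fin n) (Fin n) F) 2 := inferInstance
  have : u.1 = N + 1 := by rw [hN]; abel
  rw [this, add_pow_char_pow_of_commute _ _ (Commute.one_right N), h2, one_pow, zero_add]

theorem isPGroup_U : IsPGroup 2 (U n F) := fun u => by
  obtain ⟨k, hk⟩ := pow_eq_one_of_mem_U u.1 u.2
  exact ⟨k, Subtype.ext hk⟩

/-- `U` is a Sylow `2`-subgroup. -/
theorem exists_sylow_U :
    ∃ P : Sylow 2 (Matrix.SpecialLinearGroup (Fin n) F),
      (P : Subgroup (Matrix.SpecialLinearGroup (Fin n) F)) = U n F := by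
  haveI : Fact (Nat.Prime 2) := ⟨Nat.prime_two⟩
  obtain ⟨P, hP⟩ := (isPGroup_U (n := n) (F := F)).exists_le_sylow
  refine ⟨P, ?_⟩
  by_contra hne
  have hlt : (U n F).subgroupOf P < ⊤ := lt_top_iff_ne_top.2 fun h =>
    hne (le_antisymm (Subgroup.subgroupOf_eq_top.1 h) hP)
  haveI : Group.IsNilpotent (P : Subgroup (Matrix.SpecialLinearGroup (Fin n) F)) := P.isPGroup'.isNilpotent
  obtain ⟨⟨g, hgP⟩, hgN, hgU⟩ := SetLike.exists_of_lt
    ((Group.normalizerCondition_of_isNilpotent (G := P)) _ hlt)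
  rw [Subgroup.mem_subgroupOf] at hgU
  have hg : ∀ u ∈ U n F, g * u * g⁻¹ ∈ U n F := fun u hu =>
    Subgroup.mem_subgroupOf.1 ((Subgroup.mem_normalizer_iff.1 hgN ⟨u, hP hu⟩).1 hu)
  obtain ⟨u, hu, t, e, he, ht, hgt⟩ := normalizer_U hg
  have htP : t ∈ (P : Subgroup (Matrix.SpecialLinearGroup (Fin n) F)) := by
    have : u⁻¹ * g ∈ (P : Subgroup (Matrix.SpecialLinearGroup (Fin n) F)) := mul_mem (inv_mem (hP hu)) hgP
    rwa [hgt, inv_mul_cancel_left] at this
  obtain ⟨k, hk⟩ := P.isPGroup' ⟨t, htP⟩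
  have : t = 1 := diag_two_power ht (congrArg Subtype.val hk)
  exact hgU (show g ∈ U n F by rw [hgt, this, mul_one]; exact hu)

theorem center_two_power {z : Matrix.SpecialLinearGroup (Fin n) F}
    (hz : z ∈ Subgroup.center (Matrix.SpecialLinearGroup (Fin n) F)) {k : ℕ} (hk : z ^ 2 ^ k = 1) :
    z = 1 := by
  obtain ⟨r, -, hr⟩ := Matrix.SpecialLinearGroup.mem_center_iff.1 hz
  refine diag_two_power (e := fun _ => r) ?_ hk
  rw [← diagonal_eq_mon, ← hr, Matrix.scalar_apply]

/-- In characteristic `2` every odd index subgroup of `PSL_n(q)` is pronormal. -/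
theorem isPronormal_of_odd_index
    (H : Subgroup (Matrix.ProjectiveSpecialLinearGroup (Fin n) F)) (hH : Odd H.index) :
    Cfsg.IsPronormal H := by
  haveI : Fact (Nat.Prime 2) := ⟨Nat.prime_two⟩
  let π : Matrix.SpecialLinearGroup (Fin n) F →* Matrix.ProjectiveSpecialLinearGroup (Fin n) F :=
    QuotientGroup.mk' _
  have hπ : Function.Surjective π := QuotientGroup.mk'_surjective _
  have hker : π.ker = Subgroup.center _ := QuotientGroup.ker_mk' _
  obtain ⟨P, hP⟩ := exists_sylow_U (n := n) (F := F)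
  -- a Sylow subgroup inside `H`
  haveI : Finite (Matrix.ProjectiveSpecialLinearGroup (Fin n) F) := Finite.of_surjective π hπ
  obtain ⟨Q, hQ⟩ : ∃ Q : Sylow 2 (Matrix.ProjectiveSpecialLinearGroup (Fin n) F),
      (Q : Subgroup (Matrix.ProjectiveSpecialLinearGroup (Fin n) F)) ≤ H := by
    let R : Sylow 2 H := default
    obtain ⟨Q, hQ⟩ := (R.isPGroup'.map H.subtype).exists_le_sylow
    have hidx : ¬ 2 ∣ ((R : Subgroup H).map H.subtype).index := by
      rw [Subgroup.index_map_subtype]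
      exact Nat.prime_two.not_dvd_mul R.not_dvd_index (Nat.two_dvd_ne_zero.2 (Nat.odd_iff.1 hH))
    refine ⟨(R.isPGroup'.map H.subtype).toSylow hidx, ?_⟩
    exact Subgroup.map_subtype_le _
  refine Cfsg.Agent.Lib.SymSylow.Pronormal.isPronormal_of_normalizer_le Q hQ ?_
  obtain ⟨x, hx⟩ := MulAction.exists_smul_eq (Matrix.ProjectiveSpecialLinearGroup (Fin n) F)
    (P.mapSurjective hπ) Q
  obtain ⟨x, rfl⟩ := hπ x
  have hQeq : (Q : Subgroup (Matrix.ProjectiveSpecialLinearGroup (Fin n) F)) =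
      ((U n F).map π).map (MulAut.conj (π x)).toMonoidHom := by
    rw [← hx, Sylow.coe_subgroup_smul, Sylow.coe_mapSurjective, hP]
    rfl
  -- the preimage of the conjugate of `H`
  set H' := (H.map (MulAut.conj (π x)⁻¹).toMonoidHom).comap π with hH'
  have hUH : U n F ≤ H' := by
    intro u hu
    refine ⟨π x * π u * (π x)⁻¹, hQ ?_, by simp [mul_assoc]⟩
    rw [hQeq]
    exact ⟨π u, ⟨u, hu, rfl⟩, rfl⟩
  have hconj : ∀ g : Matrix.SpecialLinearGroup (Fin n) F, (∀ u ∈ U n F, g * u * g⁻¹ ∈ U n F) →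
      ∀ y ∈ H, π x * π g * (π x)⁻¹ * y * (π x * π g * (π x)⁻¹)⁻¹ ∈ H := by
    intro g hg y hy
    obtain ⟨w, hw⟩ := hπ ((π x)⁻¹ * y * π x)
    have hw' : w ∈ H' := ⟨y, hy, by rw [hw]; simp [mul_assoc]⟩
    obtain ⟨y', hy', he⟩ := conj_mem_of_normalizes hUH hg hw'
    have he' : (π x)⁻¹ * y' * π x = π g * π w * (π g)⁻¹ := by
      simpa [mul_assoc, map_mul, map_inv] using he
    rw [hw] at he'
    have : π x * π g * (π x)⁻¹ * y * (π x * π g * (π x)⁻¹)⁻¹ = y' := by
      calc _ = π x * (π g * ((π x)⁻¹ * y * π x) * (π g)⁻¹) * (π x)⁻¹ := by group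
        _ = π x * ((π x)⁻¹ * y' * π x) * (π x)⁻¹ := by rw [he']
        _ = y' := by group
    rw [this]; exact hy'
  intro g hg
  obtain ⟨g', hg'⟩ := hπ ((π x)⁻¹ * g * π x)
  have hnorm : ∀ u ∈ U n F, g' * u * g'⁻¹ ∈ U n F := by
    intro u hu
    have h1 : π x * π u * (π x)⁻¹ ∈ (Q : Subgroup (Matrix.ProjectiveSpecialLinearGroup (Fin n) F)) := by
      rw [hQeq]; exact ⟨π u, ⟨u, hu, rfl⟩, rfl⟩
    have h2 := (Subgroup.mem_normalizer_iff.1 hg _).1 h1
    rw [hQeq] at h2
    obtain ⟨_, ⟨v, hv, rfl⟩, he⟩ := h2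
    have he' : π (g' * u * g'⁻¹) = π v := by
      simp only [MulEquiv.coe_toMonoidHom, MulAut.conj_apply] at he
      have hv' : π v = (π x)⁻¹ * (g * (π x * π u * (π x)⁻¹) * g⁻¹) * π x := by rw [← he]; group
      rw [map_mul, map_mul, map_inv, hg', hv']
      group
    have hz : v⁻¹ * (g' * u * g'⁻¹) ∈ π.ker := by rw [MonoidHom.mem_ker, map_mul, map_inv, he', inv_mul_cancel]
    rw [hker] at hz
    obtain ⟨k, hk⟩ := pow_eq_one_of_mem_U u hu
    obtain ⟨l, hl⟩ := pow_eq_one_of_mem_U v hv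
    have h3 : v⁻¹ * (g' * u * g'⁻¹) = 1 := by
      set z := v⁻¹ * (g' * u * g'⁻¹) with hzdef
      refine center_two_power hz (k := k + l) ?_
      have hc : Commute v z := (Subgroup.mem_center_iff.1 hz v)
      have e1 : (v * z) ^ 2 ^ (k + l) = 1 := by
        rw [show v * z = g' * u * g'⁻¹ by rw [hzdef]; group, conj_pow, pow_add, pow_mul, hk, one_pow,
          mul_one, mul_inv_cancel]
      rwa [hc.mul_pow, pow_add, mul_comm, pow_mul, hl, one_pow, one_mul, mul_comm, ← pow_add] at e1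
    rw [inv_mul_eq_one] at h3
    rw [← h3]; exact hv
  have hgi : ∀ u ∈ U n F, g'⁻¹ * u * g'⁻¹⁻¹ ∈ U n F := by
    intro u hu
    rw [inv_inv]
    have hmap : (U n F).map (MulAut.conj g').toMonoidHom = U n F :=
      Subgroup.eq_of_le_of_card_ge (by rintro _ ⟨w, hw, rfl⟩; exact hnorm w hw)
        (by rw [Subgroup.card_map_of_injective (MulAut.conj g').injective])
    rw [← hmap] at hu
    obtain ⟨w, hw, rfl⟩ := hu
    simpa [mul_assoc] using hw
  have e1 : π x * π g' * (π x)⁻¹ = g := by rw [hg']; group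
  have e2 : π x * π g'⁻¹ * (π x)⁻¹ = g⁻¹ := by rw [map_inv, hg']; group
  rw [Subgroup.mem_normalizer_iff]
  intro y
  constructor
  · intro hy
    have := hconj g' hnorm y hy
    rwa [e1] at this
  · intro hy
    have := hconj g'⁻¹ hgi _ hy
    rw [e2] at this
    simpa [mul_assoc] using this

end Cfsg.Agent.Lib.SLOddIndex
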