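import Cfsg.Agent.Lib.SLOddIndex.Blocks
import Cfsg.Agent.Lib.FusionPSp4.SLTwo
import Mathlib

/-! Elements of odd order normalising a Sylow 2-subgroup of `GL_2(q)`, `q` odd, are scalars. -/

set_option autoImplicit false
set_option linter.unusedSectionVars false

namespace Cfsg.Agent.Lib.SLOddIndex

open Cfsg.Agent.Lib.PSLTwo.Sylow Cfsg.Agent.Lib.FusionPSp4

universe v

variable {F : Type v} [Field F]

/-- A matrix commuting with two non-commuting matrices is a scalar. -/
theorem scalar_of_commute_mat {x u v : Matrix (Fin 2) (Fin 2) F} (huv : u * v ≠ v * u)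
    (hu : x * u = u * x) (hv : x * v = v * x) : ∃ c : F, x = Matrix.scalar (Fin 2) c := by
  by_contra hns
  apply huv
  have key : ∀ b : Matrix (Fin 2) (Fin 2) F, x * b = b * x →
      ∃ y : F, b 0 1 = y * x 0 1 ∧ b 1 0 = y * x 1 0 ∧ b 0 0 - b 1 1 = y * (x 0 0 - x 1 1) := by
    intro b h
    have e00 := congrFun (congrFun h 0) 0
    have e01 := congrFun (congrFun h 0) 1
    have e10 := congrFun (congrFun h 1) 0
    simp only [Matrix.mul_apply, Fin.sum_univ_two] at e00 e01 e10
    by_cases hq : x 0 1 = 0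
    · by_cases hr : x 1 0 = 0
      · have hd : x 0 0 - x 1 1 ≠ 0 := by
          intro h0
          refine hns ⟨x 0 0, ?_⟩
          ext i j
          fin_cases i <;> fin_cases j <;> simp [Matrix.scalar_apply, hq, hr]
          linear_combination -h0
        refine ⟨(b 0 0 - b 1 1) / (x 0 0 - x 1 1), ?_, ?_, ?_⟩ <;> field_simp
        · rw [hq] at e01 ⊢; linear_combination e01
        · rw [hr] at e10 ⊢; linear_combination -e10
      · refine ⟨b 1 0 / x 1 0, ?_, ?_, ?_⟩ <;> field_simp
        · linear_combination -e00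
        · linear_combination e10
    · refine ⟨b 0 1 / x 0 1, ?_, ?_, ?_⟩ <;> field_simp
      · linear_combination e00
      · linear_combination -e01
  obtain ⟨y, y1, y2, y3⟩ := key u hu
  obtain ⟨z, z1, z2, z3⟩ := key v hv
  ext i j
  fin_cases i <;> fin_cases j <;> simp [Matrix.mul_apply, Fin.sum_univ_two, y1, y2, z1, z2]
  · ring
  · linear_combination (z * x 0 1) * y3 - (y * x 0 1) * z3
  · linear_combination (y * x 1 0) * z3 - (z * x 1 0) * y3
  · ring

theorem isScal_of_commute {x : GL (Fin 2) F} {u v : Matrix.SpecialLinearGroup (Fin 2) F} (huv : u * v ≠ v * u)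
    (hu : x * Matrix.SpecialLinearGroup.toGL u = Matrix.SpecialLinearGroup.toGL u * x)
    (hv : x * Matrix.SpecialLinearGroup.toGL v = Matrix.SpecialLinearGroup.toGL v * x) : IsScal x := by
  have hu' := congrArg Units.val hu
  have hv' := congrArg Units.val hv
  obtain ⟨c, hc⟩ := scalar_of_commute_mat (x := (x : Matrix (Fin 2) (Fin 2) F)) (u := u.1) (v := v.1)
    (fun e => huv (Subtype.ext e)) (by simpa using hu') (by simpa using hv')
  exact ⟨c, hc⟩

theorem perm_three_six : ∀ τ : Equiv.Perm (Fin 3), τ ^ 6 = 1 := by decide +kernel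

theorem perm_three_invol : ∀ τ τ' : Equiv.Perm (Fin 3),
    τ * τ = 1 → τ' * τ' = 1 → (τ * τ') * (τ * τ') = 1 → τ ≠ 1 → τ' ≠ 1 → τ = τ' := by decide +kernel

theorem perm_three_comm : ∀ τ s : Equiv.Perm (Fin 3),
    τ * τ = 1 → τ ≠ 1 → s * τ = τ * s → s = 1 ∨ s = τ := by decide +kernel

theorem perm_three_sq {τ : Equiv.Perm (Fin 3)} {k : ℕ} (h : τ ^ 2 ^ k = 1) : τ * τ = 1 := by
  have h6 := perm_three_six τ
  have h2 : τ ^ Nat.gcd (2 ^ k) 6 = 1 := pow_gcd_eq_one.2 ⟨h, h6⟩
  rw [← pow_two]
  have hd : Nat.gcd (2 ^ k) 6 ∣ 2 := by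
    obtain ⟨i, -, hi⟩ := (Nat.dvd_prime_pow Nat.prime_two).1 (Nat.gcd_dvd_left (2 ^ k) 6)
    have h6' : 2 ^ i ∣ 6 := hi ▸ Nat.gcd_dvd_right (2 ^ k) 6
    rw [hi]
    rcases i with _ | _ | i
    · simp
    · simp
    · exfalso
      have : 4 ∣ 6 := (Dvd.intro _ (by ring : 4 * 2 ^ i = 2 ^ (i + 1 + 1))).trans h6'
      norm_num at this
  obtain ⟨c, hc⟩ := hd
  rw [hc, pow_mul, h2, one_pow]

/-- The quaternion case. -/
theorem quat_case [Fintype F] (h2 : (2 : F) ≠ 0) {W : Subgroup (GL (Fin 2) F)}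
    (hW : ∀ w ∈ W, ∃ k, w ^ 2 ^ k = 1) {u v : Matrix.SpecialLinearGroup (Fin 2) F}
    (huu : u * u = negOne) (hanti : v * u = negOne * (u * v))
    (hall : ∀ z : Matrix.SpecialLinearGroup (Fin 2) F, Matrix.SpecialLinearGroup.toGL z ∈ W → InQuat u v z)
    (hu : Matrix.SpecialLinearGroup.toGL u ∈ W) (hv : Matrix.SpecialLinearGroup.toGL v ∈ W)
    {t : GL (Fin 2) F} (ht : t ∈ W) (hnsq : ¬ IsSquare (Matrix.GeneralLinearGroup.det t : F))
    {a : GL (Fin 2) F} (ha : ∀ w ∈ W, a * w * a⁻¹ ∈ W) {r : ℕ} (hr : r % 2 = 1) (har : a ^ r = 1) :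
    IsScal a := by
  classical
  let T : Matrix.SpecialLinearGroup (Fin 2) F →* GL (Fin 2) F := Matrix.SpecialLinearGroup.toGL
  have hT : Function.Injective T := Matrix.SpecialLinearGroup.toGL_injective
  have hvv : v * v = negOne := sq_of_anti h2 hanti
  have hne : u * v ≠ v * u := not_commute_of_anti h2 hanti
  have huv : u * v = negOne * (v * u) := anti_comm h2 hanti
  let c : Fin 3 → Matrix.SpecialLinearGroup (Fin 2) F := ![u, v, u * v]
  have hcne : ∀ i j, c i = c j ∨ c i = negOne * c j → i = j := by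
    have hn1 : (negOne : Matrix.SpecialLinearGroup (Fin 2) F) ≠ 1 := negOne_ne_one h2
    have hun : u ≠ 1 := fun e => hne (by rw [e]; simp)
    have hvn : v ≠ 1 := fun e => hne (by rw [e]; simp)
    have hun' : u ≠ negOne := fun e => hne (by rw [e]; exact negOne_central v)
    have hvn' : v ≠ negOne := fun e => hne (by rw [e]; exact (negOne_central u).symm)
    have hvu : v ≠ u := fun e => hne (by rw [e])
    have hvu' : v ≠ negOne * u := fun e => hne (by rw [e, ← mul_assoc u, ← negOne_central u, mul_assoc])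
    have hn2 : ∀ z : Matrix.SpecialLinearGroup (Fin 2) F, negOne * (negOne * z) = z := fun z => by
      rw [← mul_assoc, negOne_sq, one_mul]
    intro i j hij
    fin_cases i <;> fin_cases j <;> simp [c] at hij ⊢
    · rcases hij with e | e
      · exact hvu e.symm
      · exact hvu' (by rw [e, hn2])
    · rcases hij with e | e
      · exact hvn e
      · rw [← mul_assoc, negOne_central u, mul_assoc] at e
        have e' : 1 = negOne * v := mul_left_cancel ((mul_one u).trans e)
        exact hvn' (by rw [← hn2 v, ← e', mul_one])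
    · rcases hij with e | e
      · exact hvu e
      · exact hvu' e
    · rcases hij with e | e
      · exact hun e
      · rw [← mul_assoc] at e
        have e' : 1 = negOne * u := mul_right_cancel ((one_mul v).trans e)
        exact hun' (by rw [← hn2 u, ← e', mul_one])
    · rcases hij with e | e
      · exact hvn e
      · rw [← hn2 (u * v)] at e
        have e1 := mul_left_cancel e
        rw [← mul_assoc, negOne_central u, mul_assoc] at e1
        have e' : negOne * v = 1 := mul_left_cancel (e1.trans (mul_one u).symm)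
        exact hvn' (by rw [← hn2 v, e', mul_one])
    · rcases hij with e | e
      · exact hun e
      · exact hun' e
  have hcW : ∀ i, T (c i) ∈ W := by
    intro i
    fin_cases i <;> simp [c]
    · exact hu
    · exact hv
    · exact mul_mem hu hv
  have hcsq : ∀ i, c i * c i = negOne := by
    intro i
    fin_cases i <;> simp [c]
    · exact huu
    · exact hvv
    · calc u * v * (u * v) = u * (v * u) * v := by group
        _ = u * negOne * (u * (v * v)) := by rw [hanti]; group
        _ = negOne := by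
          rw [hvv, ← negOne_central u, mul_assoc negOne, ← mul_assoc u, ← negOne_central u,
            mul_assoc negOne u u, huu, negOne_sq, mul_one]
  -- the elements normalising `W` permute the axes
  have hnorm : ∀ g : GL (Fin 2) F, (∀ w ∈ W, g * w * g⁻¹ ∈ W) → ∀ i, ∃ j, ∃ ε,
      (ε = 1 ∨ ε = negOne) ∧ g * T (c i) * g⁻¹ = T (ε * c j) := by
    intro g hg i
    have hdet : Matrix.GeneralLinearGroup.det (g * T (c i) * g⁻¹) = 1 := by
      rw [map_mul, map_mul, map_inv, mul_inv_cancel_comm]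
      exact Units.ext (by simp [T])
    have hz : ∃ z, T z = g * T (c i) * g⁻¹ := by
      refine ⟨⟨((g * T (c i) * g⁻¹ : GL (Fin 2) F) : Matrix (Fin 2) (Fin 2) F), ?_⟩, Units.ext rfl⟩
      rw [← Matrix.GeneralLinearGroup.val_det_apply, hdet, Units.val_one]
    obtain ⟨z, hz⟩ := hz
    have hzq := hall z (by show T z ∈ W; rw [hz]; exact hg _ (hcW i))
    have hzsq : z * z = negOne := by
      apply hT
      have hn : Commute g (T negOne) := by
        apply Units.ext
        show (g : Matrix (Fin 2) (Fin 2) F) * (negOne : Matrix.SpecialLinearGroup (Fin 2) F).1 =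
          (negOne : Matrix.SpecialLinearGroup (Fin 2) F).1 * (g : Matrix (Fin 2) (Fin 2) F)
        ext p q
        fin_cases p <;> fin_cases q <;> simp [negOne, Matrix.mul_apply, Fin.sum_univ_two]
      rw [map_mul, hz, show g * T (c i) * g⁻¹ * (g * T (c i) * g⁻¹) = g * (T (c i) * T (c i)) * g⁻¹ by group,
        ← map_mul, hcsq, hn.eq, mul_inv_cancel_right]
    obtain ⟨y, hy, hzy⟩ := sq_negOne_cases h2 hzq hzsq
    obtain ⟨j, rfl⟩ : ∃ j, c j = y := by
      rcases hy with rfl | rfl | rfl
      · exact ⟨0, rfl⟩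
      · exact ⟨1, rfl⟩
      · exact ⟨2, rfl⟩
    rcases hzy with e | e
    · exact ⟨j, 1, Or.inl rfl, by rw [one_mul, ← e, hz]⟩
    · exact ⟨j, negOne, Or.inr rfl, by rw [← e, hz]⟩
  let N : Subgroup (GL (Fin 2) F) := Subgroup.normalizer (W : Set (GL (Fin 2) F))
  have hNW : ∀ g : GL (Fin 2) F, (∀ w ∈ W, g * w * g⁻¹ ∈ W) → g ∈ N := fun g hg => by
    haveI : Finite (GL (Fin 2) F) := inferInstance
    exact mem_normalizer_of_conj_mem hg
  have hN' : ∀ g : N, ∀ w ∈ W, (g : GL (Fin 2) F) * w * (g : GL (Fin 2) F)⁻¹ ∈ W := fun g w hw =>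
    (Subgroup.mem_normalizer_iff.1 g.2 w).1 hw
  choose f ε hε hf using fun g : N => hnorm g.1 (hN' g)
  have huniq : ∀ g : N, ∀ i j ε', (ε' = 1 ∨ ε' = negOne) →
      (g : GL (Fin 2) F) * T (c i) * (g : GL (Fin 2) F)⁻¹ = T (ε' * c j) → f g i = j := by
    intro g i j ε' hε' he
    rw [hf g i] at he
    have e := hT he
    refine hcne _ _ ?_
    rcases hε g i with e1 | e1 <;> rcases hε' with e2 | e2 <;> rw [e1, e2] at e
    · left; simpa using e
    · right; simpa using e
    · right; rw [one_mul] at e; rw [← e, ← mul_assoc, negOne_sq, one_mul]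
    · left; exact mul_left_cancel e
  have hTn : ∀ (g : GL (Fin 2) F) ε', (ε' = 1 ∨ ε' = negOne) → g * T ε' = T ε' * g := by
    rintro g ε' (rfl | rfl)
    · simp
    · apply Units.ext
      show (g : Matrix (Fin 2) (Fin 2) F) * (negOne : Matrix.SpecialLinearGroup (Fin 2) F).1 =
        (negOne : Matrix.SpecialLinearGroup (Fin 2) F).1 * (g : Matrix (Fin 2) (Fin 2) F)
      ext p q
      fin_cases p <;> fin_cases q <;> simp [negOne, Matrix.mul_apply, Fin.sum_univ_two]
  have hmul : ∀ g g' : N, ∀ i, f (g * g') i = f g (f g' i) := by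
    intro g g' i
    refine huniq _ _ _ (ε g' i * ε g (f g' i)) ?_ ?_
    · rcases hε g' i with e1 | e1 <;> rcases hε g (f g' i) with e2 | e2 <;> rw [e1, e2] <;> simp [negOne_sq]
    · have e : ((g * g' : N) : GL (Fin 2) F) * T (c i) * ((g * g' : N) : GL (Fin 2) F)⁻¹ =
          (g : GL (Fin 2) F) * ((g' : GL (Fin 2) F) * T (c i) * (g' : GL (Fin 2) F)⁻¹) *
            (g : GL (Fin 2) F)⁻¹ := by
        rw [Subgroup.coe_mul]; group
      rw [e, hf g' i, map_mul, ← mul_assoc (g : GL (Fin 2) F), hTn _ _ (hε g' i), mul_assoc (T (ε g' i)),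
        mul_assoc, hf g (f g' i), mul_assoc]
      simp only [map_mul, mul_assoc]
  have hone : ∀ i, f 1 i = i := fun i => huniq 1 i i 1 (Or.inl rfl) (by simp)
  let σ : N →* Equiv.Perm (Fin 3) :=
    { toFun := fun g =>
        { toFun := f g
          invFun := f g⁻¹
          left_inv := fun i => by rw [← hmul, inv_mul_cancel, hone]
          right_inv := fun i => by rw [← hmul, mul_inv_cancel, hone] }
      map_one' := Equiv.ext hone
      map_mul' := fun g g' => Equiv.ext (hmul g g') }
  have hfix : ∀ g : N, σ g = 1 → ∀ i, ∃ ε, (ε = 1 ∨ ε = negOne) ∧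
      (g : GL (Fin 2) F) * T (c i) = T ε * T (c i) * (g : GL (Fin 2) F) := by
    intro g hg i
    refine ⟨ε g i, hε g i, ?_⟩
    have h1 := hf g i
    rw [show f g i = i from Equiv.congr_fun hg i, map_mul] at h1
    exact mul_inv_eq_iff_eq_mul.1 h1
  let tN : N := ⟨t, hNW t fun w hw => W.mul_mem (W.mul_mem ht hw) (W.inv_mem ht)⟩
  have hτne : σ tN ≠ 1 := by
    intro h1
    apply hnsq
    obtain ⟨εu, hεu, hu'⟩ := hfix tN h1 0
    obtain ⟨εv, hεv, hv'⟩ := hfix tN h1 1
    change t * T u = T εu * T u * t at hu'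
    change t * T v = T εv * T v * t at hv'
    obtain ⟨y, hy1, hy2⟩ : ∃ y, (t * T y) * T u = T u * (t * T y) ∧ (t * T y) * T v = T v * (t * T y) := by
      have hTu : ∀ y ey, y * u = ey * (u * y) → (ey = 1 ∨ ey = negOne) → T εu * T ey = 1 →
          t * T y * T u = T u * (t * T y) := by
        intro y ey h3 hey h4
        calc t * T y * T u = t * T (y * u) := by rw [map_mul, mul_assoc]
          _ = t * T ey * (T u * T y) := by rw [h3, map_mul, map_mul, mul_assoc]
          _ = T ey * (t * T u) * T y := by rw [hTn t ey hey]; simp only [mul_assoc]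
          _ = (T ey * T εu) * (T u * (t * T y)) := by rw [hu']; simp only [mul_assoc]
          _ = _ := by rw [← hTn (T ey) εu hεu] at h4; rw [h4, one_mul]
      have hTv : ∀ y ey, y * v = ey * (v * y) → (ey = 1 ∨ ey = negOne) → T εv * T ey = 1 →
          t * T y * T v = T v * (t * T y) := by
        intro y ey h3 hey h4
        calc t * T y * T v = t * T (y * v) := by rw [map_mul, mul_assoc]
          _ = t * T ey * (T v * T y) := by rw [h3, map_mul, map_mul, mul_assoc]
          _ = T ey * (t * T v) * T y := by rw [hTn t ey hey]; simp only [mul_assoc]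
          _ = (T ey * T εv) * (T v * (t * T y)) := by rw [hv']; simp only [mul_assoc]
          _ = _ := by rw [← hTn (T ey) εv hεv] at h4; rw [h4, one_mul]
      have huvu : u * v * u = negOne * (u * (u * v)) := by
        rw [mul_assoc, hanti, ← mul_assoc u, ← negOne_central u, mul_assoc]
      have huvv : u * v * v = negOne * (v * (u * v)) := by
        calc u * v * v = negOne * (v * u) * v := by rw [← huv]
          _ = _ := by group
      have hm : T negOne * T negOne = (1 : GL (Fin 2) F) := by rw [← map_mul, negOne_sq, map_one]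
      rcases hεu with rfl | rfl <;> rcases hεv with rfl | rfl
      · exact ⟨1, hTu 1 1 (by simp) (Or.inl rfl) (by simp), hTv 1 1 (by simp) (Or.inl rfl) (by simp)⟩
      · exact ⟨u, hTu u 1 (by simp) (Or.inl rfl) (by simp), hTv u negOne huv (Or.inr rfl) hm⟩
      · exact ⟨v, hTu v negOne hanti (Or.inr rfl) hm, hTv v 1 (by simp) (Or.inl rfl) (by simp)⟩
      · exact ⟨u * v, hTu _ negOne huvu (Or.inr rfl) hm, hTv _ negOne huvv (Or.inr rfl) hm⟩
    obtain ⟨l, hl⟩ := isScal_of_commute hne hy1 hy2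
    refine ⟨l, ?_⟩
    have hd : Matrix.GeneralLinearGroup.det (t * T y) = Matrix.GeneralLinearGroup.det t := by
      rw [map_mul]
      have : Matrix.GeneralLinearGroup.det (T y) = 1 := Units.ext (by simp [T])
      rw [this, mul_one]
    rw [← hd, Matrix.GeneralLinearGroup.val_det_apply, hl]
    simp [Matrix.scalar_apply, Fintype.card_fin]
    ring
  have hWsq : ∀ g : N, (g : GL (Fin 2) F) ∈ W → σ g * σ g = 1 := fun g hg => by
    obtain ⟨k, hk⟩ := hW _ hg
    exact perm_three_sq (k := k) (by rw [← map_pow, show g ^ 2 ^ k = 1 from Subtype.ext hk, map_one])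
  let aN : N := ⟨a, hNW a ha⟩
  have hτ2 := hWsq tN ht
  have hconjW : ((aN * tN * aN⁻¹ : N) : GL (Fin 2) F) ∈ W := ha t ht
  have hcomm : σ aN * σ tN = σ tN * σ aN := by
    have h1 : σ (aN * tN * aN⁻¹) = σ tN := by
      refine perm_three_invol _ _ (hWsq _ hconjW) hτ2 ?_ ?_ hτne
      · rw [← map_mul]; exact hWsq _ (W.mul_mem hconjW ht)
      · rw [map_mul, map_mul, map_inv]
        exact fun z => hτne (conj_eq_one_iff.1 z)
    rw [map_mul, map_mul, map_inv] at h1
    exact mul_inv_eq_iff_eq_mul.1 h1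
  have hσa : σ aN = 1 := by
    have hr' : σ aN ^ r = 1 := by
      rw [← map_pow, show aN ^ r = 1 from Subtype.ext har, map_one]
    rcases perm_three_comm (σ tN) (σ aN) hτ2 hτne hcomm with h | h
    · exact h
    · rw [h]
      exact odd_two_power hr (h ▸ hr') (k := 1) (by rw [pow_one, pow_two]; exact hτ2)
  have hac : ∀ i, a * T (c i) = T (c i) * a := by
    intro i
    obtain ⟨ε', hε', h1⟩ := hfix aN hσa i
    change a * T (c i) = T ε' * T (c i) * a at h1
    rcases hε' with rfl | rfl
    · simpa using h1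
    · exfalso
      have hpow : ∀ n : ℕ, a ^ n * T (c i) = T negOne ^ n * T (c i) * a ^ n := by
        intro n
        induction n with
        | zero => simp
        | succ n ih =>
          calc a ^ (n + 1) * T (c i) = a * (a ^ n * T (c i)) := by rw [pow_succ', mul_assoc]
            _ = a * T negOne ^ n * (T (c i) * a ^ n) := by rw [ih]; simp only [mul_assoc]
            _ = T negOne ^ n * (a * T (c i)) * a ^ n := by
              rw [((show Commute a (T negOne) from hTn a _ (Or.inr rfl)).pow_right n).eq]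
              simp only [mul_assoc]
            _ = _ := by rw [h1, pow_succ (T negOne), pow_succ' a]; simp only [mul_assoc]
      have h2' := hpow r
      rw [har, one_mul, mul_one, eq_comm, mul_eq_right, ← map_pow, ← map_one T] at h2'
      have h3 := hT h2'
      obtain ⟨l, rfl⟩ : ∃ l, r = 2 * l + 1 := ⟨r / 2, by omega⟩
      rw [pow_succ, pow_mul, sq, negOne_sq, one_pow, one_mul] at h3
      exact negOne_ne_one h2 h3
  exact isScal_of_commute hne (hac 0) (hac 1)

/-- The data of one level of the induction. -/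
def Good (ι : Type) [Fintype ι] [DecidableEq ι] (F : Type v) [Field F] : Prop :=
  ∃ W : Sylow 2 (GL ι F),
    (∀ a : GL ι F, (∀ w ∈ (W : Subgroup (GL ι F)), a * w * a⁻¹ ∈ (W : Subgroup (GL ι F))) →
      (∃ r : ℕ, r % 2 = 1 ∧ a ^ r = 1) → IsScal a) ∧
    (∀ x : GL ι F, (∀ w ∈ (W : Subgroup (GL ι F)), Matrix.GeneralLinearGroup.det w = 1 →
      x * w = w * x) → IsScal x) ∧
    ∃ w ∈ (W : Subgroup (GL ι F)), Matrix.GeneralLinearGroup.det w = 1 ∧ ¬ IsScal w

theorem good_two [Fintype F] (hodd : Fintype.card F % 2 = 1) : Good (Fin 2) F := by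
  haveI : Fact (Nat.Prime 2) := ⟨Nat.prime_two⟩
  have h2 := two_ne_zero_of_odd (F := F) hodd
  let T : Matrix.SpecialLinearGroup (Fin 2) F →* GL (Fin 2) F := Matrix.SpecialLinearGroup.toGL
  have hT : Function.Injective T := Matrix.SpecialLinearGroup.toGL_injective
  obtain ⟨Q, x, hx, y, hy, hxy⟩ := exists_noncommuting_sylow hodd
  obtain ⟨W, hW⟩ := (Q.isPGroup'.map T).exists_le_sylow
  have hQW : ∀ z, T z ∈ (W : Subgroup (GL (Fin 2) F)) ↔ z ∈ (Q : Subgroup _) := by
    intro z
    have hp : IsPGroup 2 ((W : Subgroup (GL (Fin 2) F)).comap T) := W.isPGroup'.comap_of_injective T hT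
    have := Q.is_maximal' hp (fun q hq => hW ⟨q, hq, rfl⟩)
    exact ⟨fun h => this ▸ h, fun h => hW ⟨z, h, rfl⟩⟩
  have hdetT : ∀ z, Matrix.GeneralLinearGroup.det (T z) = 1 := fun z => Units.ext (by simp [T])
  refine ⟨W, ?_, fun z hz => isScal_of_commute hxy (hz _ ((hQW x).2 hx) (hdetT x)) (hz _ ((hQW y).2 hy) (hdetT y)),
    T x, (hQW x).2 hx, hdetT x, fun hs => hxy (hT (by rw [map_mul, map_mul]; exact hs.commute _))⟩
  rintro a ha ⟨r, hr, har⟩
  have hWp : ∀ w ∈ (W : Subgroup (GL (Fin 2) F)), ∃ k, w ^ 2 ^ k = 1 := by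
    intro w hw
    obtain ⟨k, hk⟩ := W.isPGroup' ⟨w, hw⟩
    exact ⟨k, congrArg Subtype.val hk⟩
  rcases normalizer_cases hodd Q ⟨x, hx, y, hy, hxy⟩ with hA | ⟨u, hu, v, hv, huu, -, hanti, hall⟩
  · -- the normaliser acts as inner automorphisms
    set δ := Matrix.GeneralLinearGroup.det a with hδ
    set e : Fˣ := δ ^ ((r + 1) / 2) with he
    have hδr : δ ^ r = 1 := by rw [hδ, ← map_pow, har, map_one]
    have he2 : e * e = δ := by
      rw [he, ← pow_add, show (r + 1) / 2 + (r + 1) / 2 = r + 1 by omega, pow_succ, hδr, one_mul]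
    set s : GL (Fin 2) F := Matrix.GeneralLinearGroup.scalar (Fin 2) e⁻¹ with hs
    have hss : IsScal s := ⟨(e⁻¹ : Fˣ), by simp only [hs, Matrix.GeneralLinearGroup.coe_scalar]⟩
    have hdet : Matrix.GeneralLinearGroup.det (s * a) = 1 := by
      rw [map_mul, ← hδ, ← he2]
      apply Units.ext
      simp [hs, Matrix.GeneralLinearGroup.val_det_apply, Matrix.scalar_apply, Fintype.card_fin]
      field_simp
    obtain ⟨b, hb⟩ : ∃ b, T b = s * a := by
      refine ⟨⟨((s * a : GL (Fin 2) F) : Matrix (Fin 2) (Fin 2) F), ?_⟩, Units.ext rfl⟩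
      rw [← Matrix.GeneralLinearGroup.val_det_apply, hdet, Units.val_one]
    have hbr : b ^ r = 1 := by
      apply hT
      rw [map_pow, hb, (show Commute s a from hss.commute a).mul_pow, har, mul_one, map_one, hs,
        ← map_pow, inv_pow, he, ← pow_mul, mul_comm, pow_mul, hδr, one_pow, inv_one, map_one]
    have hbn : ∀ z ∈ (Q : Subgroup (Matrix.SpecialLinearGroup (Fin 2) F)), b * z * b⁻¹ ∈ (Q : Subgroup _) := by
      intro z hz
      rw [← hQW, map_mul, map_mul, map_inv, hb]
      have e1 : s * a * T z * (s * a)⁻¹ = a * T z * a⁻¹ := by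
        calc s * a * T z * (s * a)⁻¹ = s * (a * T z * a⁻¹) * s⁻¹ := by group
          _ = _ := by rw [hss.commute, mul_inv_cancel_right]
      rw [e1]
      exact ha _ ((hQW z).2 hz)
    obtain ⟨q, hq, hqz⟩ := hA b hbn
    have hc : ∀ z ∈ (Q : Subgroup (Matrix.SpecialLinearGroup (Fin 2) F)),
        (q⁻¹ * b) * z = z * (q⁻¹ * b) := by
      intro z hz
      calc q⁻¹ * b * z = q⁻¹ * (b * z * b⁻¹) * b := by group
        _ = q⁻¹ * (q * z * q⁻¹) * b := by rw [hqz z hz]
        _ = _ := by group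
    have hbQ : b ∈ (Q : Subgroup (Matrix.SpecialLinearGroup (Fin 2) F)) := by
      rcases scalar_of_commute hxy (hc x hx) (hc y hy) with e1 | e1
      · rw [← inv_mul_eq_one.1 e1]; exact hq
      · rw [show b = q * negOne by rw [← e1]; group]; exact mul_mem hq (negOne_mem Q)
    obtain ⟨k, hk⟩ := Q.isPGroup' ⟨b, hbQ⟩
    have hb1 : b = 1 := odd_two_power hr hbr (congrArg Subtype.val hk)
    rw [hb1, map_one, eq_comm, mul_eq_one_iff_inv_eq] at hb
    rw [← hb, hs, ← map_inv]
    exact ⟨((e⁻¹)⁻¹ : Fˣ), by simp⟩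
  · -- quaternion case: produce an element of non-square determinant
    obtain ⟨d, hd⟩ := IsCyclic.exists_generator (α := Fˣ)
    obtain ⟨g, hg⟩ := Matrix.GeneralLinearGroup.det_surjective (n := Fin 2) (R := F) d
    obtain ⟨r', k, hr', hk⟩ := exists_odd_pow g
    have hgp : IsPGroup 2 (Subgroup.zpowers (g ^ r')) := by
      rintro ⟨z, hz⟩
      obtain ⟨i, rfl⟩ := Subgroup.mem_zpowers_iff.1 hz
      refine ⟨k, Subtype.ext ?_⟩
      show ((g ^ r') ^ i) ^ 2 ^ k = 1
      rw [← zpow_natCast ((g ^ r') ^ i), ← zpow_mul, mul_comm, zpow_mul, zpow_natCast, hk, one_zpow]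
    obtain ⟨P, hP⟩ := hgp.exists_le_sylow
    obtain ⟨m, hm⟩ := MulAction.exists_smul_eq (GL (Fin 2) F) P W
    have ht : m * g ^ r' * m⁻¹ ∈ (W : Subgroup (GL (Fin 2) F)) := by
      rw [← hm, Sylow.coe_subgroup_smul]
      exact ⟨_, hP (Subgroup.mem_zpowers _), rfl⟩
    have hnsq : ¬ IsSquare (Matrix.GeneralLinearGroup.det (m * g ^ r' * m⁻¹) : F) := by
      rw [map_mul, map_mul, map_inv, mul_inv_cancel_comm, map_pow, hg]
      rintro ⟨z, hz⟩
      have hz0 : z ≠ 0 := fun e => (d ^ r').ne_zero (by rw [hz, e, mul_zero])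
      obtain ⟨i, hi⟩ := Subgroup.mem_zpowers_iff.1 (hd (Units.mk0 z hz0))
      have e : d ^ (r' : ℤ) = d ^ (i + i) := by
        rw [zpow_natCast, zpow_add, hi]; exact Units.ext hz
      have hord : (orderOf d : ℤ) ∣ (i + i) - r' := orderOf_dvd_sub_iff_zpow_eq_zpow.2 e.symm
      have heven : 2 ∣ orderOf d := by
        rw [orderOf_eq_card_of_forall_mem_zpowers hd, Nat.card_units, Nat.card_eq_fintype_card]
        omega
      have h' : (2 : ℤ) ∣ (i + i) - r' := (Int.natCast_dvd_natCast.2 heven).trans hord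
      omega
    exact quat_case h2 hWp huu hanti (fun z hz => hall z ((hQW z).1 hz)) ((hQW u).2 hu) ((hQW v).2 hv)
      ht hnsq ha hr har

end Cfsg.Agent.Lib.SLOddIndex
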