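import Cfsg.Agent.Lib.SLOddIndex.GLTwo
import Mathlib

/-! The induction on the degree `2^k`. -/

set_option autoImplicit false
set_option linter.unusedSectionVars false

namespace Cfsg.Agent.Lib.SLOddIndex

open Cfsg.Agent.Lib.PSLTwo.Sylow

universe v

variable {F : Type v} [Field F]

section reindex

variable {ι ι' : Type} [Fintype ι] [DecidableEq ι] [Fintype ι'] [DecidableEq ι']

/-- Reindexing of `GL`. -/
noncomputable def reGL (e : ι ≃ ι') : GL ι F ≃* GL ι' F :=
  Units.mapEquiv (Matrix.reindexAlgEquiv F F e).toMulEquiv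

theorem det_reGL (e : ι ≃ ι') (x : GL ι F) :
    Matrix.GeneralLinearGroup.det (reGL e x) = Matrix.GeneralLinearGroup.det x := by
  apply Units.ext
  rw [Matrix.GeneralLinearGroup.val_det_apply, Matrix.GeneralLinearGroup.val_det_apply]
  exact Matrix.det_submatrix_equiv_self e.symm _

theorem isScal_reGL (e : ι ≃ ι') (x : GL ι F) : IsScal (reGL e x) ↔ IsScal x := by
  constructor
  · rintro ⟨c, hc⟩
    refine ⟨c, ?_⟩
    ext i j
    have := congrFun (congrFun hc (e i)) (e j)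
    simpa [reGL, Matrix.scalar_apply, Matrix.diagonal] using this
  · rintro ⟨c, hc⟩
    refine ⟨c, ?_⟩
    ext i j
    have := congrFun (congrFun hc (e.symm i)) (e.symm j)
    simpa [reGL, Matrix.scalar_apply, Matrix.diagonal] using this

end reindex

/-- The conclusion for the special linear group. -/
def GoodSL (ι : Type) [Fintype ι] [DecidableEq ι] (F : Type v) [Field F] : Prop :=
  ∃ W : Sylow 2 (GL ι F), ∀ a : GL ι F,
    (∀ w ∈ (W : Subgroup (GL ι F)), Matrix.GeneralLinearGroup.det w = 1 →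
      a * w * a⁻¹ ∈ (W : Subgroup (GL ι F)) ∧ Matrix.GeneralLinearGroup.det (a * w * a⁻¹) = 1) →
    (∃ r : ℕ, r % 2 = 1 ∧ a ^ r = 1) → IsScal a

variable [Fintype F]

theorem good_transport {ι ι' : Type} [Fintype ι] [DecidableEq ι] [Fintype ι'] [DecidableEq ι']
    (e : ι ≃ ι') (h : Good ι F ∧ GoodSL ι F) : Good ι' F ∧ GoodSL ι' F := by
  haveI : Fact (Nat.Prime 2) := ⟨Nat.prime_two⟩
  obtain ⟨⟨W, hN, hC, w0, hw0, hd0, hs0⟩, V, hS⟩ := h
  let φ : GL ι F ≃* GL ι' F := reGL e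
  have hsurj : Function.Surjective φ.toMonoidHom := φ.surjective
  have key : ∀ (P : Sylow 2 (GL ι F)) y, y ∈ (P.mapSurjective hsurj : Subgroup (GL ι' F)) ↔
      φ.symm y ∈ (P : Subgroup (GL ι F)) := by
    intro P y
    rw [Sylow.coe_mapSurjective, Subgroup.mem_map_equiv]
  have hsc : ∀ y, IsScal (φ.symm y) → IsScal y := fun y hy => by
    have := (isScal_reGL e (φ.symm y)).2 hy
    rwa [show reGL e (φ.symm y) = y from φ.apply_symm_apply y] at this
  have hdet : ∀ y, Matrix.GeneralLinearGroup.det (φ.symm y) = Matrix.GeneralLinearGroup.det y := fun y => by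
    rw [← det_reGL e (φ.symm y)]
    exact congrArg _ (φ.apply_symm_apply y)
  refine ⟨⟨W.mapSurjective hsurj, ?_, ?_, φ w0, ?_, ?_, ?_⟩, V.mapSurjective hsurj, ?_⟩
  · rintro a ha ⟨r, hr, har⟩
    refine hsc a (hN _ (fun w hw => ?_) ⟨r, hr, by rw [← map_pow, har, map_one]⟩)
    have := (key W _).1 (ha (φ w) ((key W _).2 (by simpa using hw)))
    simpa using this
  · intro x hx
    refine hsc x (hC _ fun w hw hd => ?_)
    have := hx (φ w) ((key W _).2 (by simpa using hw)) (by rw [← hdet]; simpa using hd)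
    simpa using congrArg φ.symm this
  · exact (key W _).2 (by simpa using hw0)
  · rw [← hdet]; simpa using hd0
  · exact fun z => hs0 ((isScal_reGL e w0).1 z)
  · rintro a ha ⟨r, hr, har⟩
    refine hsc a (hS _ (fun w hw hd => ?_) ⟨r, hr, by rw [← map_pow, har, map_one]⟩)
    obtain ⟨h1, h2⟩ := ha (φ w) ((key V _).2 (by simpa using hw)) (by rw [← hdet]; simpa using hd)
    refine ⟨by simpa using (key V _).1 h1, ?_⟩
    rw [← hdet] at h2
    simpa using h2

theorem step {k : ℕ} (hk : 1 ≤ k) (hodd : Fintype.card F % 2 = 1) {κ : Type} [Fintype κ] [DecidableEq κ]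
    (hκ : Fintype.card κ = 2 ^ k) (h : Good κ F) : Good (κ ⊕ κ) F ∧ GoodSL (κ ⊕ κ) F := by
  haveI : Fact (Nat.Prime 2) := ⟨Nat.prime_two⟩
  have h2 := two_ne_zero_of_odd (F := F) hodd
  haveI : Nonempty κ := Fintype.card_pos_iff.1 (by rw [hκ]; exact Nat.two_pow_pos k)
  have heven : Even (Fintype.card κ) := by rw [hκ, Nat.even_pow]; exact ⟨even_two, by omega⟩
  obtain ⟨W, hN, hC, hns⟩ := h
  obtain ⟨P, hP⟩ := exists_sylow_W1 hodd hk hκ W
  have hm1 : (-1 : GL κ F) ∈ (W : Subgroup (GL κ F)) :=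
    mem_sylow_of_normalizes W.isPGroup' (fun _ hU hle => W.is_maximal' hU hle) (k := 1)
      (by simp) (fun y hy => by simpa using hy)
  have hdm1 : Matrix.GeneralLinearGroup.det (-1 : GL κ F) = 1 := by
    apply Units.ext
    simp [Matrix.GeneralLinearGroup.val_det_apply, Matrix.det_neg, heven.neg_one_pow]
  have m1 : ∀ w ∈ (W : Subgroup (GL κ F)), emb (w, 1) ∈ W1 (W : Subgroup (GL κ F)) := fun w hw =>
    ⟨w, hw, 1, one_mem _, Or.inl rfl⟩
  have m2 : ∀ w ∈ (W : Subgroup (GL κ F)), emb (w, w⁻¹) ∈ W1 (W : Subgroup (GL κ F)) := fun w hw =>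
    ⟨w, hw, w⁻¹, inv_mem hw, Or.inl rfl⟩
  have m4 : sw ∈ W1 (W : Subgroup (GL κ F)) :=
    ⟨1, one_mem _, 1, one_mem _, Or.inr (by
      rw [show emb ((1 : GL κ F), (1 : GL κ F)) = 1 from map_one emb, one_mul])⟩
  refine ⟨⟨P, ?_, ?_, ?_⟩, P, ?_⟩
  · rintro a ha ⟨r, hr, har⟩
    rw [hP] at ha
    exact scal_of_normalizes h2 hN hC hns le_rfl (fun w hw _ => m1 w hw) m2 (m1 _ hm1) m4 ha hr har
  · intro x hx
    rw [hP] at hx
    refine scal_of_commute h2 hC (fun w hw hd => hx _ (m1 w hw) ?_) (hx _ (m1 _ hm1) ?_) (hx _ m4 (det_sw heven))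
    · rw [det_emb, hd, map_one, mul_one]
    · rw [det_emb, hdm1, map_one, mul_one]
  · obtain ⟨w, hw, hd, hs⟩ := hns
    refine ⟨emb (w, 1), hP ▸ m1 w hw, by rw [det_emb, hd, map_one, mul_one], fun ⟨c, hc⟩ => hs ⟨c, ?_⟩⟩
    rw [emb_val] at hc
    ext i j
    have := congrFun (congrFun hc (Sum.inl i)) (Sum.inl j)
    simpa [Matrix.scalar_apply, Matrix.diagonal] using this
  · rintro a ha ⟨r, hr, har⟩
    rw [hP] at ha
    refine scal_of_normalizes h2 hN hC hns (S := W1 (W : Subgroup (GL κ F)) ⊓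
        (Matrix.GeneralLinearGroup.det : GL (κ ⊕ κ) F →* Fˣ).ker) inf_le_left
      (fun w hw hd => ⟨m1 w hw, ?_⟩) (fun w hw => ⟨m2 w hw, ?_⟩) ⟨m1 _ hm1, ?_⟩ ⟨m4, det_sw heven⟩
      (fun x hx => ha x hx.1 hx.2) hr har
    · show Matrix.GeneralLinearGroup.det (emb (w, 1)) = 1
      rw [det_emb, hd, map_one, mul_one]
    · show Matrix.GeneralLinearGroup.det (emb (w, w⁻¹)) = 1
      rw [det_emb, map_inv, mul_inv_cancel]
    · show Matrix.GeneralLinearGroup.det (emb ((-1 : GL κ F), 1)) = 1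
      rw [det_emb, hdm1, map_one, mul_one]

theorem good_level (hodd : Fintype.card F % 2 = 1) :
    ∀ k : ℕ, Good (Fin (2 ^ (k + 1))) F ∧ (1 ≤ k → GoodSL (Fin (2 ^ (k + 1))) F)
  | 0 => ⟨good_two hodd, fun h => absurd h (by omega)⟩
  | k + 1 => by
    have h := (good_level hodd k).1
    have h' := good_transport (finSumFinEquiv.trans (finCongr (show 2 ^ (k + 1) + 2 ^ (k + 1) = 2 ^ (k + 1 + 1) by rw [pow_succ _ (k + 1)]; ring)))
      (step (k := k + 1) (by omega) hodd (by simp) h)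
    exact ⟨h'.1, fun _ => h'.2⟩

end Cfsg.Agent.Lib.SLOddIndex
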