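import Cfsg.Agent.Lib.SLOddIndex.SelfNorm
import Cfsg.Agent.Lib.FusionPSp4.SLTwo
import Mathlib

/-! Odd index subgroups of `PSL_2(q)`, `q` odd, are pronormal. -/

set_option autoImplicit false
set_option linter.unusedSectionVars false

namespace Cfsg.Agent.Lib.SLOddIndex

open Cfsg.Agent.Lib.PSLTwo.Sylow Cfsg.Agent.Lib.FusionPSp4
open scoped commutatorElement

universe v

variable {F : Type v} [Field F]

local notation "SL2" => Matrix.SpecialLinearGroup (Fin 2) F
local notation "PSL2" => Matrix.ProjectiveSpecialLinearGroup (Fin 2) F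
local notation "pr" => QuotientGroup.mk' (Subgroup.center SL2)

theorem tr_zero_of_sq (h2 : (2 : F) ≠ 0) {z : SL2} (hz : z * z = negOne) :
    z.1 0 0 + z.1 1 1 = 0 ∧ z.1 0 0 ^ 2 + z.1 0 1 * z.1 1 0 = -1 := by
  have e00 := congrArg (fun g : SL2 => g.1 0 0) hz
  have e01 := congrArg (fun g : SL2 => g.1 0 1) hz
  have e11 := congrArg (fun g : SL2 => g.1 1 1) hz
  have d := det_eq z
  simp [mul_apply', negOne] at e00 e01 e11
  refine ⟨?_, by linear_combination e00⟩
  have h1 : z.1 0 0 * (z.1 0 0 + z.1 1 1) = 0 := by linear_combination e00 + d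
  have h3 : z.1 1 1 * (z.1 0 0 + z.1 1 1) = 0 := by linear_combination e11 + d
  have hsq : (z.1 0 0 + z.1 1 1) * (z.1 0 0 + z.1 1 1) = 0 := by linear_combination h1 + h3
  exact mul_self_eq_zero.1 hsq

theorem nonScalar_axis (h2 : (2 : F) ≠ 0) {z : SL2} (hz : z * z = negOne) : NonScalar z := by
  rw [nonScalar_iff h2]
  constructor <;> rintro rfl
  · exact negOne_ne_one h2 (by simpa using hz.symm)
  · rw [negOne_sq] at hz; exact negOne_ne_one h2 hz.symm

theorem tr_sq_ne_of_commute (h2 : (2 : F) ≠ 0) {z a : SL2} (hz : z * z = negOne) (ha : NonScalar a)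
    (hc : a * z = z * a) : slTr a ^ 2 ≠ 4 := by
  intro h4
  obtain ⟨y, y1, y2, y3⟩ := commute_param (nonScalar_axis h2 hz) hc
  obtain ⟨t0, t1⟩ := tr_zero_of_sq h2 hz
  have d := det_eq a
  simp only [slTr] at h4
  have hz11 : z.1 1 1 = -z.1 0 0 := by linear_combination t0
  rw [hz11] at y3
  rw [y1, y2] at d
  have hy : (2 : F) * 2 * (y * y) = 0 := by
    linear_combination -h4 + 4 * d + (a.1 0 0 - a.1 1 1 + y * (2 * z.1 0 0)) * y3 + 4 * y * y * t1
  have hy0 : y = 0 := mul_self_eq_zero.1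
    ((mul_eq_zero.1 hy).resolve_left (mul_ne_zero h2 h2))
  rw [hy0, zero_mul] at y1 y2 y3
  rcases ha with h | h | h
  · exact h y1
  · exact h y2
  · exact h (sub_eq_zero.1 y3)

variable [Fintype F]

theorem mem_ker_iff (h2 : (2 : F) ≠ 0) {z : SL2} : z ∈ (pr).ker ↔ z = 1 ∨ z = negOne := by
  rw [QuotientGroup.ker_mk', mem_center_iff' h2]

theorem ker_two_power (h2 : (2 : F) ≠ 0) : ∀ z ∈ (pr).ker, ∃ k, (z : SL2) ^ 2 ^ k = 1 := by
  intro z hz
  refine ⟨1, ?_⟩
  rw [pow_one, pow_two]
  rcases (mem_ker_iff h2).1 hz with rfl | rfl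
  · simp
  · exact negOne_sq

theorem pr_eq (h2 : (2 : F) ≠ 0) {a b : SL2} (h : pr a = pr b) : a = b ∨ a = negOne * b := by
  have : a * b⁻¹ ∈ (pr).ker := by rw [MonoidHom.mem_ker, map_mul, map_inv, h, mul_inv_cancel]
  rcases (mem_ker_iff h2).1 this with e | e
  · exact Or.inl (mul_inv_eq_one.1 e)
  · exact Or.inr (mul_inv_eq_iff_eq_mul.1 e)

theorem comm_lift (h2 : (2 : F) ≠ 0) {a b : SL2} {r : ℕ} (hr : r % 2 = 1) (har : a ^ r = 1)
    (hc : pr a * pr b = pr b * pr a) : a * b = b * a := by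
  have h1 : pr (b * a * b⁻¹) = pr a := by
    rw [map_mul, map_mul, map_inv, ← hc, mul_inv_cancel_right]
  rcases pr_eq h2 h1 with e | e
  · exact (mul_inv_eq_iff_eq_mul.1 e).symm
  · exfalso
    have e1 : (b * a * b⁻¹) ^ r = 1 := by rw [conj_pow, har]; simp
    rw [e, (show Commute (negOne : SL2) a from negOne_central a).mul_pow, har, mul_one] at e1
    obtain ⟨l, rfl⟩ : ∃ l, r = 2 * l + 1 := ⟨r / 2, by omega⟩
    rw [pow_succ, pow_mul, sq, negOne_sq, one_pow, one_mul] at e1
    exact negOne_ne_one h2 e1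

theorem nonScalar_of_odd (h2 : (2 : F) ≠ 0) {a : SL2} {r : ℕ} (hr : r % 2 = 1) (har : a ^ r = 1)
    (ha : a ≠ 1) : NonScalar a := by
  rw [nonScalar_iff h2]
  refine ⟨ha, ?_⟩
  rintro rfl
  obtain ⟨l, rfl⟩ : ∃ l, r = 2 * l + 1 := ⟨r / 2, by omega⟩
  rw [pow_succ, pow_mul, sq, negOne_sq, one_pow, one_mul] at har
  exact negOne_ne_one h2 har

/-- An element of odd order commuting with an axis; its relations. -/
theorem trans_axis (h2 : (2 : F) ≠ 0) {x y : PSL2} {z : SL2} (hz : z * z = negOne) {r s : ℕ}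
    (hr : r % 2 = 1) (hs : s % 2 = 1) (hx : x ^ r = 1) (hx1 : x ≠ 1) (hy : y ^ s = 1)
    (hxz : x * pr z = pr z * x) (hxy : x * y = y * x) : y * pr z = pr z * y := by
  obtain ⟨a, rfl, ha⟩ := exists_odd_lift pr (QuotientGroup.mk'_surjective _) (ker_two_power h2) hr hx
  obtain ⟨b, rfl, hb⟩ := exists_odd_lift pr (QuotientGroup.mk'_surjective _) (ker_two_power h2) hs hy
  have hns : NonScalar a := nonScalar_of_odd h2 hr ha (fun e => hx1 (by rw [e, map_one]))
  rw [← map_mul, ← map_mul, commute_of_commute hns (comm_lift h2 hr ha hxy).symm (comm_lift h2 hr ha hxz).symm]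

theorem comm_of_axis (h2 : (2 : F) ≠ 0) {x y : PSL2} {z : SL2} (hz : z * z = negOne) {r s : ℕ}
    (hr : r % 2 = 1) (hs : s % 2 = 1) (hx : x ^ r = 1) (hy : y ^ s = 1)
    (hxz : x * pr z = pr z * x) (hyz : y * pr z = pr z * y) : x * y = y * x := by
  obtain ⟨a, rfl, ha⟩ := exists_odd_lift pr (QuotientGroup.mk'_surjective _) (ker_two_power h2) hr hx
  obtain ⟨b, rfl, hb⟩ := exists_odd_lift pr (QuotientGroup.mk'_surjective _) (ker_two_power h2) hs hy
  rw [← map_mul, ← map_mul,
    commute_of_commute (nonScalar_axis h2 hz) (comm_lift h2 hr ha hxz) (comm_lift h2 hs hb hyz)]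

/-- An element of odd order mapping an element centralising an axis to such an element centralises it. -/
theorem fixes_of_axis (h2 : (2 : F) ≠ 0) {x g : PSL2} {z : SL2} (hz : z * z = negOne) {r s : ℕ}
    (hr : r % 2 = 1) (hs : s % 2 = 1) (hx : x ^ r = 1) (hx1 : x ≠ 1) (hg : g ^ s = 1)
    (hxz : x * pr z = pr z * x) (hgxz : g * x * g⁻¹ * pr z = pr z * (g * x * g⁻¹)) :
    g * x = x * g := by
  obtain ⟨a, rfl, ha⟩ := exists_odd_lift pr (QuotientGroup.mk'_surjective _) (ker_two_power h2) hr hx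
  obtain ⟨b, rfl, hb⟩ := exists_odd_lift pr (QuotientGroup.mk'_surjective _) (ker_two_power h2) hs hg
  have hns : NonScalar a := nonScalar_of_odd h2 hr ha (fun e => hx1 (by rw [e, map_one]))
  have haz := comm_lift h2 hr ha hxz
  have hc' : b * a * b⁻¹ * z = z * (b * a * b⁻¹) := comm_lift h2 hr (by rw [conj_pow, ha]; simp)
    (by simp only [map_mul, map_inv]; exact hgxz)
  have hcomm := commute_of_commute (nonScalar_axis h2 hz) hc' haz
  rcases eq_or_eq_inv h2 hns (tr_sq_ne_of_commute h2 hz hns haz) hcomm (slTr_conj a b) with e | e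
  · rw [← map_mul, ← map_mul, mul_inv_eq_iff_eq_mul.1 e]
  · exfalso
    have h1 := conj_pow_inv e s hs
    rw [hb, one_mul, inv_one, mul_one] at h1
    have hsq : a ^ 2 ^ 1 = 1 := by
      rw [pow_one, pow_two]; nth_rewrite 2 [h1]; rw [mul_inv_cancel]
    have hco : a ^ Nat.gcd r (2 ^ 1) = 1 := pow_gcd_eq_one.2 ⟨ha, hsq⟩
    rw [Nat.Coprime.pow_right 1 (Nat.odd_iff.2 hr).coprime_two_right, pow_one] at hco
    exact hx1 (by rw [hco, map_one])

/-- The quaternion case: every subgroup containing the four-group `S` is pronormal. -/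
theorem isPronormal_four (hodd : Fintype.card F % 2 = 1) (S : Sylow 2 PSL2)
    (hax : ∀ s ∈ (S : Subgroup PSL2), s ≠ 1 → ∃ z : SL2, z * z = negOne ∧ pr z = s)
    (hcard : Nat.card (S : Subgroup PSL2) ≤ 4) (hsq : ∀ s ∈ (S : Subgroup PSL2), s * s = 1)
    (htwo : ∃ s t, s ∈ (S : Subgroup PSL2) ∧ t ∈ (S : Subgroup PSL2) ∧ s ≠ 1 ∧ t ≠ 1 ∧ s ≠ t)
    (H : Subgroup PSL2) (hSH : (S : Subgroup PSL2) ≤ H) : Cfsg.IsPronormal H := by
  classical
  haveI : Fact (Nat.Prime 2) := ⟨Nat.prime_two⟩
  have h2 := two_ne_zero_of_odd (F := F) hodd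
  have hπ : Function.Surjective pr := QuotientGroup.mk'_surjective _
  haveI : Finite PSL2 := Finite.of_surjective _ hπ
  set V : Subgroup PSL2 := (S : Subgroup PSL2) with hV
  have hab : ∀ s ∈ V, ∀ t ∈ V, s * t = t * s := by
    intro s hs t ht
    have h := hsq _ (V.mul_mem hs ht)
    have e1 : s⁻¹ = s := inv_eq_of_mul_eq_one_right (hsq s hs)
    have e2 : t⁻¹ = t := inv_eq_of_mul_eq_one_right (hsq t ht)
    calc s * t = (s * t)⁻¹ := (inv_eq_of_mul_eq_one_right h).symm
      _ = t * s := by rw [_root_.mul_inv_rev, e1, e2]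
  obtain ⟨s0, t0, hs0, ht0, hs01, ht01, hne0⟩ := htwo
  -- two axes centralise only the identity among the elements of odd order
  have two_axes : ∀ s ∈ V, ∀ t ∈ V, s ≠ 1 → t ≠ 1 → s ≠ t → ∀ a : PSL2, ∀ r : ℕ, r % 2 = 1 → a ^ r = 1 →
      a * s = s * a → a * t = t * a → a = 1 := by
    intro s hs t ht hs1 ht1 hst a r hr har has hat
    obtain ⟨z1, hz1, rfl⟩ := hax s hs hs1
    obtain ⟨z2, hz2, rfl⟩ := hax t ht ht1
    obtain ⟨b, rfl, hb⟩ := exists_odd_lift pr hπ (ker_two_power h2) hr har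
    by_contra hb1
    have hns : NonScalar b := nonScalar_of_odd h2 hr hb (fun e => hb1 (by rw [e, map_one]))
    have h12 : z1 * z2 = z2 * z1 :=
      commute_of_commute hns (comm_lift h2 hr hb has).symm (comm_lift h2 hr hb hat).symm
    have hns1 := nonScalar_axis h2 hz1
    have htr1 := (tr_zero_of_sq h2 hz1).1
    have htr2 := (tr_zero_of_sq h2 hz2).1
    have h4 : slTr z1 ^ 2 ≠ 4 := by
      simp only [slTr, htr1]
      intro h
      exact mul_ne_zero h2 h2 (by linear_combination -h)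
    rcases eq_or_eq_inv h2 hns1 h4 h12.symm (by simp only [slTr, htr1, htr2]) with e | e
    · exact hst (by rw [e])
    · refine hst ?_
      rw [e, map_inv]
      exact (inv_eq_of_mul_eq_one_right (hsq _ hs)).symm
  -- the centraliser of `V`
  have hcent : ∀ g : PSL2, (∀ s ∈ V, g * s = s * g) → g ∈ V := by
    intro g hg
    obtain ⟨r, k, hr, hk⟩ := exists_odd_pow' g
    have h1 : g ^ 2 ^ k = 1 := two_axes s0 hs0 t0 ht0 hs01 ht01 hne0 _ r hr
      (by rw [← pow_mul, mul_comm, pow_mul, hk]) ((show Commute g s0 from hg s0 hs0).pow_left _).eq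
      ((show Commute g t0 from hg t0 ht0).pow_left _).eq
    have hz : IsPGroup 2 (Subgroup.zpowers g) := by
      rintro ⟨y, hy⟩
      obtain ⟨i, rfl⟩ := Subgroup.mem_zpowers_iff.1 hy
      refine ⟨k, Subtype.ext ?_⟩
      show (g ^ i) ^ 2 ^ k = 1
      rw [← zpow_natCast (g ^ i), ← zpow_mul, mul_comm, zpow_mul, zpow_natCast, h1, one_zpow]
    have hgN : g ∈ Subgroup.normalizer (V : Set PSL2) := by
      refine Subgroup.mem_normalizer_iff.2 fun s => ⟨fun hs => by rwa [hg s hs, mul_inv_cancel_right], fun hs => ?_⟩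
      have h := hg _ hs
      have : g * s * g⁻¹ = s := by
        have e : g * (g * s * g⁻¹) * g⁻¹ = g * s * g⁻¹ := by rw [h]; group
        have := congrArg (fun w => g⁻¹ * w * g) e
        simpa [mul_assoc] using this
      rwa [this] at hs
    have := S.is_maximal' (S.isPGroup'.to_sup_of_normal_left' hz (Subgroup.zpowers_le.2 hgN)) le_sup_left
    have hmem : g ∈ V ⊔ Subgroup.zpowers g := Subgroup.mem_sup_right (Subgroup.mem_zpowers g)
    rwa [show V ⊔ Subgroup.zpowers g = V from this] at hmem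
  -- the automiser of `V`
  set N := Subgroup.normalizer (V : Set PSL2) with hNdef
  have hVN : V ≤ N := Subgroup.le_normalizer
  let φ : N →* Equiv.Perm V := (MulAut.toPerm V).comp (Subgroup.normalizerMonoidHom V)
  have hker : φ.ker = V.subgroupOf N := by
    ext g
    rw [MonoidHom.mem_ker, Subgroup.mem_subgroupOf]
    constructor
    · intro hg
      refine hcent _ fun s hs => ?_
      have := congrArg Subtype.val (Equiv.congr_fun hg ⟨s, hs⟩)
      exact mul_inv_eq_iff_eq_mul.1 this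
    · intro hg
      refine Equiv.ext fun s => Subtype.ext ?_
      show (g : PSL2) * s * (g : PSL2)⁻¹ = s
      rw [hab _ hg _ s.2, mul_inv_cancel_right]
  have hindex : (V.subgroupOf N).index ∣ 3 := by
    have h1 : (V.subgroupOf N).index = Nat.card φ.range := by rw [← hker, Subgroup.index_ker]
    have h2' : Nat.card φ.range ∣ Nat.factorial 4 :=
      (Subgroup.card_subgroup_dvd_card _).trans (by rw [Nat.card_perm]; exact Nat.factorial_dvd_factorial hcard)
    have h3 : ¬ 2 ∣ (V.subgroupOf N).index := fun h =>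
      S.not_dvd_index (h.trans (dvd_trans (dvd_refl _) (Subgroup.relIndex_dvd_index_of_le hVN)))
    rw [← h1] at h2'
    have hco : Nat.Coprime (V.subgroupOf N).index (2 ^ 3) :=
      Nat.Coprime.pow_right 3 (Nat.prime_two.coprime_iff_not_dvd.2 h3).symm
    exact hco.dvd_of_dvd_mul_left (show (V.subgroupOf N).index ∣ 2 ^ 3 * 3 by
      norm_num [Nat.factorial] at h2' ⊢; exact h2')
  intro x
  -- reduce to an element normalising `V`
  suffices key : ∀ y ∈ N, ∃ w ∈ H ⊔ H.map (MulAut.conj y).toMonoidHom,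
      H.map (MulAut.conj y).toMonoidHom = H.map (MulAut.conj w).toMonoidHom by
    set K := H ⊔ H.map (MulAut.conj x).toMonoidHom with hK
    have h1 : (S : Subgroup PSL2) ≤ K := hSH.trans le_sup_left
    have h2' : ((x • S : Sylow 2 PSL2) : Subgroup PSL2) ≤ K := by
      refine le_trans ?_ (le_sup_right (a := H))
      rw [Sylow.coe_subgroup_smul]
      exact Subgroup.map_mono hSH
    obtain ⟨c, hc⟩ := MulAction.exists_smul_eq ↥K (S.subtype h1) ((x • S).subtype h2')
    have hcS : ((c : PSL2) • S : Sylow 2 PSL2) = x • S := by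
      have hle : (((c : PSL2) • S : Sylow 2 PSL2) : Subgroup PSL2) ≤ K := by
        rw [Sylow.coe_subgroup_smul]
        rintro _ ⟨y, hy, rfl⟩
        exact K.mul_mem (K.mul_mem c.2 (h1 hy)) (K.inv_mem c.2)
      refine Sylow.subtype_injective (hP := hle) (hQ := h2') ?_
      rw [← hc, Sylow.smul_subtype]
      rfl
    have hy : (c : PSL2)⁻¹ * x ∈ N :=
      Sylow.smul_eq_iff_mem_normalizer.mp (by rw [mul_smul, ← hcS, inv_smul_smul])
    obtain ⟨w, hw, hwe⟩ := key _ hy
    refine ⟨(c : PSL2) * w, K.mul_mem c.2 ?_, ?_⟩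
    · have hle : H.map (MulAut.conj ((c : PSL2)⁻¹ * x)).toMonoidHom ≤ K := by
        rintro _ ⟨h, hh, rfl⟩
        have e : (MulAut.conj ((c : PSL2)⁻¹ * x)).toMonoidHom h =
            (c : PSL2)⁻¹ * (x * h * x⁻¹) * c := by simp [mul_assoc]
        rw [e]
        exact K.mul_mem (K.mul_mem (K.inv_mem c.2) (Subgroup.mem_sup_right ⟨h, hh, rfl⟩)) c.2
      exact (sup_le (le_sup_left : H ≤ K) hle) hw
    · have hcomp : ∀ p q : PSL2, H.map (MulAut.conj (p * q)).toMonoidHom =
          (H.map (MulAut.conj q).toMonoidHom).map (MulAut.conj p).toMonoidHom := fun p q => by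
        rw [Subgroup.map_map]; congr 1
        refine MonoidHom.ext fun h => ?_
        simp [mul_assoc]
      rw [hcomp, ← hwe, ← hcomp, mul_inv_cancel_left]
  intro y hy
  set K := H ⊔ H.map (MulAut.conj y).toMonoidHom with hK
  by_cases hyK : y ∈ K
  · exact ⟨y, hyK, rfl⟩
  have hyV : y ∉ V := fun h => hyK (le_sup_left (a := H) (hSH h))
  -- now `K` has no element outside `V` normalising `V`
  have hNK : ∀ g ∈ K, g ∈ N → g ∈ V := by
    intro g hgK hgN
    by_contra hgV
    apply hyK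
    let M : Subgroup N := K.subgroupOf N
    have hle : V.subgroupOf N ≤ M := fun s hs => (le_sup_left (a := H)) (hSH hs)
    have h3 : (V.subgroupOf N).relIndex M * M.index = (V.subgroupOf N).index :=
      Subgroup.relIndex_mul_index hle
    have hne : (V.subgroupOf N).relIndex M ≠ 1 := by
      rw [Ne, Subgroup.relIndex_eq_one]
      exact fun h => hgV (h (show (⟨g, hgN⟩ : N) ∈ M from hgK))
    rcases (Nat.dvd_prime Nat.prime_three).1 hindex with h | h
    · exact absurd (Nat.eq_one_of_mul_eq_one_right (h3.trans h)) hne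
    · rcases (Nat.dvd_prime Nat.prime_three).1 (h ▸ h3 ▸ dvd_mul_right _ _) with h' | h'
      · exact absurd h' hne
      · rw [h', h] at h3
        have htop := Subgroup.index_eq_one.1 (show M.index = 1 by omega)
        have : (⟨y, hy⟩ : N) ∈ M := by rw [htop]; exact Subgroup.mem_top _
        exact this
  -- transfer in `K`
  have hVK : V ≤ K := hSH.trans le_sup_left
  let SK : Sylow 2 K := S.subtype hVK
  have hSKmem : ∀ k : K, k ∈ (SK : Subgroup K) ↔ (k : PSL2) ∈ V := fun k => by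
    rw [show (SK : Subgroup K) = V.subgroupOf K from Sylow.coe_subtype _ _, Subgroup.mem_subgroupOf]
  have hP : Subgroup.normalizer ((SK : Subgroup K) : Set K) ≤ Subgroup.centralizer ((SK : Subgroup K) : Set K) := by
    intro g hg
    have hgN : (g : PSL2) ∈ N := by
      refine mem_normalizer_of_conj_mem fun s hs => ?_
      exact (hSKmem _).1 ((Subgroup.mem_normalizer_iff.1 hg ⟨s, hVK hs⟩).1 ((hSKmem _).2 hs))
    rw [Subgroup.mem_centralizer_iff]
    intro s hs
    exact Subtype.ext (hab _ ((hSKmem _).1 hs) _ (hNK _ g.2 hgN))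
  let f := MonoidHom.transferSylow SK hP
  set O : Subgroup K := f.ker with hO
  have hdisj : Disjoint O (SK : Subgroup K) := MonoidHom.ker_transferSylow_disjoint SK hP _ SK.isPGroup'
  have hOodd : ¬ 2 ∣ Nat.card O := MonoidHom.not_dvd_card_ker_transferSylow SK hP
  have hOpow : ∀ o ∈ O, ∃ r : ℕ, r % 2 = 1 ∧ o ^ r = 1 := fun o ho =>
    ⟨Nat.card O, Nat.two_dvd_ne_zero.1 hOodd, congrArg Subtype.val (pow_card_eq_one' (x := (⟨o, ho⟩ : O)))⟩
  have hOV : ∀ s : K, (s : PSL2) ∈ V → ∀ o ∈ O, s * o * s⁻¹ ∈ O := fun s _ o ho =>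
    (MonoidHom.normal_ker f).conj_mem o ho s
  -- a four-group has a non-trivial fixed point on a non-trivial abelian group of odd order
  have four : ∀ A : Subgroup K, A ≤ O → (∀ a ∈ A, ∀ b ∈ A, a * b = b * a) →
      (∀ s : K, (s : PSL2) ∈ V → ∀ a ∈ A, s * a * s⁻¹ ∈ A) → A ≠ ⊥ →
      ∃ a ∈ A, a ≠ 1 ∧ ∃ s : PSL2, s ∈ V ∧ s ≠ 1 ∧ (a : PSL2) * s = s * a := by
    intro A hAO hA hAV hA1
    obtain ⟨a, ha, ha1⟩ := (Subgroup.bot_or_exists_ne_one A).resolve_left hA1
    have aux : ∀ s : K, (s : PSL2) ∈ V → (s * a * s⁻¹ = a⁻¹) ∨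
        ∃ b ∈ A, b ≠ 1 ∧ (b : PSL2) * s = s * b := by
      intro s hs
      by_cases h : a * (s * a * s⁻¹) = 1
      · exact Or.inl (eq_inv_of_mul_eq_one_right h)
      refine Or.inr ⟨_, mul_mem ha (hAV s hs a ha), h, ?_⟩
      have hss : s * s = 1 := Subtype.ext (hsq _ hs)
      have e : s * (a * (s * a * s⁻¹)) * s⁻¹ = a * (s * a * s⁻¹) := by
        calc s * (a * (s * a * s⁻¹)) * s⁻¹ = (s * a * s⁻¹) * ((s * s) * a * (s * s)⁻¹) := by group
          _ = (s * a * s⁻¹) * a := by rw [hss]; group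
          _ = _ := hA _ (hAV s hs a ha) _ ha
      exact congrArg Subtype.val (mul_inv_eq_iff_eq_mul.1 e).symm
    rcases aux ⟨s0, hVK hs0⟩ hs0 with h1 | ⟨b, hb, hb1, h⟩
    swap
    · exact ⟨b, hb, hb1, s0, hs0, hs01, h⟩
    rcases aux ⟨t0, hVK ht0⟩ ht0 with h3 | ⟨b, hb, hb1, h⟩
    swap
    · exact ⟨b, hb, hb1, t0, ht0, ht01, h⟩
    refine ⟨a, ha, ha1, s0 * t0, V.mul_mem hs0 ht0, fun e => hne0 ?_, ?_⟩
    · rw [← inv_eq_of_mul_eq_one_right (hsq s0 hs0)]
      exact (inv_eq_of_mul_eq_one_right e)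
    · set S0 : K := ⟨s0, hVK hs0⟩
      set T0 : K := ⟨t0, hVK ht0⟩
      have e : S0 * T0 * a * (S0 * T0)⁻¹ = a := by
        calc S0 * T0 * a * (S0 * T0)⁻¹ = S0 * (T0 * a * T0⁻¹) * S0⁻¹ := by group
          _ = (S0 * a * S0⁻¹)⁻¹ := by rw [h3]; group
          _ = a := by rw [h1, inv_inv]
      exact congrArg Subtype.val (mul_inv_eq_iff_eq_mul.1 e).symm
  -- `O` is commutative
  have hOab : ∀ a ∈ O, ∀ b ∈ O, a * b = b * a := by
    have hcomm : commutator O = ⊥ := by
      by_contra hne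
      obtain ⟨r, hr, hrd⟩ := Nat.exists_prime_and_dvd (show Nat.card (commutator O) ≠ 1 from
        fun h => hne (Subgroup.card_eq_one.1 h))
      haveI : Fact r.Prime := ⟨hr⟩
      let c : V →* MulAut O := (MulAut.conjNormal (H := O)).comp (Subgroup.inclusion hVK)
      letI : MulAction V (Sylow r O) := MulAction.compHom _ c
      obtain ⟨R, hR⟩ := (show IsPGroup 2 V from S.isPGroup').nonempty_fixed_point_of_prime_not_dvd_card (Sylow r O) (fun h => hOodd (h.trans
        ((Sylow.card_dvd_index (default : Sylow r O)).trans (Subgroup.index_dvd_card _))))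
      set RK : Subgroup K := (R : Subgroup O).map O.subtype with hRK
      have hRKinv : ∀ s : K, (s : PSL2) ∈ V → ∀ a ∈ RK, s * a * s⁻¹ ∈ RK := by
        rintro s hs _ ⟨o, ho, rfl⟩
        have hfix : (c ⟨(s : PSL2), hs⟩) • R = R := hR ⟨(s : PSL2), hs⟩
        refine ⟨(c ⟨(s : PSL2), hs⟩) o, ?_, ?_⟩
        · rw [← hfix, Sylow.pointwise_smul_def]
          exact Subgroup.smul_mem_pointwise_smul o _ _ ho
        · show ((MulAut.conjNormal (Subgroup.inclusion hVK ⟨(s : PSL2), hs⟩) o : O) : K) = _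
          rw [MulAut.conjNormal_apply]
          rfl
      have hRKO : RK ≤ O := Subgroup.map_subtype_le _
      have hRp : IsPGroup r RK := R.isPGroup'.map _
      have hrd' : r ∣ Nat.card O := hrd.trans (Subgroup.card_subgroup_dvd_card _)
      haveI : Nontrivial RK := by
        rw [← Finite.one_lt_card_iff_nontrivial, hRK,
          Subgroup.card_map_of_injective (Subgroup.subtype_injective O)]
        exact hr.one_lt.trans_le (Nat.le_of_dvd Nat.card_pos (R.dvd_card_of_dvd_card hrd'))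
      haveI := hRp.center_nontrivial
      set Z : Subgroup K := (Subgroup.center RK).map RK.subtype with hZ
      have hZne : Z ≠ ⊥ := fun h => by
        have := (Subgroup.map_eq_bot_iff_of_injective _ (Subgroup.subtype_injective RK)).1 h
        exact (Subgroup.nontrivial_iff_ne_bot _).1 inferInstance this
      have hZR : Z ≤ RK := Subgroup.map_subtype_le _
      have hZc : ∀ a ∈ Z, ∀ b ∈ RK, a * b = b * a := by
        rintro _ ⟨a, ha, rfl⟩ b hb
        exact (congrArg Subtype.val (Subgroup.mem_center_iff.1 ha ⟨b, hb⟩)).symm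
      have hZinv : ∀ s : K, (s : PSL2) ∈ V → ∀ a ∈ Z, s * a * s⁻¹ ∈ Z := by
        intro s hs a ha
        refine ⟨⟨s * a * s⁻¹, hRKinv s hs a (hZR ha)⟩, Subgroup.mem_center_iff.2 fun b => Subtype.ext ?_, rfl⟩
        have hss : s * s = 1 := Subtype.ext (hsq _ hs)
        have hb' : s⁻¹ * (b : K) * s ∈ RK := by
          have := hRKinv s hs b b.2
          rwa [show s⁻¹ = s from inv_eq_of_mul_eq_one_right hss] at this ⊢
        show (b : K) * (s * a * s⁻¹) = s * a * s⁻¹ * b
        calc (b : K) * (s * a * s⁻¹) = s * ((s⁻¹ * b * s) * a) * s⁻¹ := by group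
          _ = s * (a * (s⁻¹ * b * s)) * s⁻¹ := by rw [hZc a ha _ hb']
          _ = _ := by group
      obtain ⟨z, hz, hz1, s, hs, hs1, hzs⟩ := four Z (hZR.trans hRKO)
        (fun a ha b hb => hZc a ha b (hZR hb)) hZinv hZne
      obtain ⟨w, hw, rfl⟩ := hax s hs hs1
      obtain ⟨rz, hrz, hzr⟩ := hOpow z (hRKO (hZR hz))
      have hall : ∀ a ∈ RK, (a : PSL2) * pr w = pr w * a := by
        intro a ha
        obtain ⟨ra, hra, har⟩ := hOpow a (hRKO ha)
        exact trans_axis h2 hw hrz hra (congrArg Subtype.val hzr) (fun e => hz1 (Subtype.ext e))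
          (congrArg Subtype.val har) hzs (congrArg Subtype.val (hZc z hz a ha))
      have hNC : Subgroup.normalizer ((R : Subgroup O) : Set O) ≤
          Subgroup.centralizer ((R : Subgroup O) : Set O) := by
        intro g hg
        rw [Subgroup.mem_centralizer_iff]
        intro a ha
        by_cases ha1 : a = 1
        · rw [ha1, one_mul, mul_one]
        obtain ⟨ra, hra, har⟩ := hOpow (a : K) a.2
        obtain ⟨rg, hrg, hgr⟩ := hOpow (g : K) g.2
        have hmem : ((g * a * g⁻¹ : O) : K) ∈ RK := ⟨_, (Subgroup.mem_normalizer_iff.1 hg a).1 ha, rfl⟩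
        have := fixes_of_axis h2 hw hra hrg (congrArg Subtype.val har)
          (fun e => ha1 (Subtype.ext (Subtype.ext e))) (congrArg Subtype.val hgr)
          (hall _ ⟨a, ha, rfl⟩) (hall _ hmem)
        exact Subtype.ext (Subtype.ext this.symm)
      haveI : IsMulCommutative (R : Subgroup O) := ⟨⟨fun a b =>
        Subtype.ext (hNC (Subgroup.le_normalizer b.2) a a.2)⟩⟩
      have hle : commutator O ≤ (MonoidHom.transferSylow R hNC).ker := by
        rw [commutator_def, Subgroup.commutator_le]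
        intro p _ q _
        rw [MonoidHom.mem_ker, map_commutatorElement, commutatorElement_eq_one_iff_mul_comm]
        exact mul_comm' _ _
      exact MonoidHom.not_dvd_card_ker_transferSylow R hNC (hrd.trans (Subgroup.card_dvd_of_le hle))
    intro a ha b hb
    have : ⁅(⟨a, ha⟩ : O), ⟨b, hb⟩⁆ ∈ commutator O := by
      rw [commutator_def]; exact Subgroup.commutator_mem_commutator (Subgroup.mem_top _) (Subgroup.mem_top _)
    rw [hcomm, Subgroup.mem_bot, commutatorElement_eq_one_iff_mul_comm] at this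
    exact congrArg Subtype.val this
  -- `H` meets `O` trivially
  set A : Subgroup K := O ⊓ H.subgroupOf K with hA
  have hAbot : A = ⊥ := by
    by_contra hne
    obtain ⟨a, ha, ha1, s, hs, hs1, has⟩ := four A inf_le_left (fun a ha b hb => hOab a ha.1 b hb.1)
      (fun s hs a ha => ⟨hOV s hs a ha.1, Subgroup.mem_subgroupOf.2
        (H.mul_mem (H.mul_mem (hSH hs) (Subgroup.mem_subgroupOf.1 ha.2)) (H.inv_mem (hSH hs)))⟩) hne
    obtain ⟨r, hr, har⟩ := hOpow a ha.1
    have haP : (a : PSL2) ^ r = 1 := congrArg Subtype.val har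
    have ha1' : (a : PSL2) ≠ 1 := fun e => ha1 (Subtype.ext e)
    set a' : PSL2 := y * a * y⁻¹ with ha'
    have ha'K : a' ∈ K := Subgroup.mem_sup_right ⟨a, Subgroup.mem_subgroupOf.1 ha.2, rfl⟩
    have ha'r : a' ^ r = 1 := by rw [ha', conj_pow, haP]; simp
    have ha'O : (⟨a', ha'K⟩ : K) ∈ O := by
      rw [hO, MonoidHom.mem_ker]
      obtain ⟨j, hj⟩ := SK.isPGroup' (f ⟨a', ha'K⟩)
      have h1 : f ⟨a', ha'K⟩ ^ r = 1 := by
        rw [← map_pow, show (⟨a', ha'K⟩ : K) ^ r = 1 from Subtype.ext ha'r, map_one]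
      have h3 : f ⟨a', ha'K⟩ ^ Nat.gcd r (2 ^ j) = 1 := pow_gcd_eq_one.2 ⟨h1, hj⟩
      rwa [Nat.Coprime.pow_right j (Nat.odd_iff.2 hr).coprime_two_right, pow_one] at h3
    set s' := y * s * y⁻¹ with hs'
    have hs'V : s' ∈ V := (Subgroup.mem_normalizer_iff.1 hy s).1 hs
    have hs'1 : s' ≠ 1 := fun e => hs1 (conj_eq_one_iff.1 e)
    have hss' : s ≠ s' := by
      intro e
      have hys : y * s = s * y := mul_inv_eq_iff_eq_mul.1 e.symm
      -- `y ^ 2` then centralises `V`
      have hy3 : φ ⟨y, hy⟩ ^ 3 = 1 := by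
        have hc : φ ⟨y, hy⟩ ^ Nat.card φ.range = 1 := congrArg Subtype.val
          (pow_card_eq_one' (x := (⟨φ ⟨y, hy⟩, ⟨_, rfl⟩⟩ : φ.range)))
        obtain ⟨d, hd⟩ := hindex
        rw [← hker, Subgroup.index_ker] at hd
        rw [hd, pow_mul, hc, one_pow]
      have himg : ∀ w : PSL2, w ∈ V → w = 1 ∨ w = s ∨ ∀ u ∈ V, u = 1 ∨ u = s ∨ u = w ∨ u = s * w := by
        intro w hw
        by_contra hcon
        push Not at hcon
        obtain ⟨hw1, hws, u, hu, hu1, hus, huw, husw⟩ := hcon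
        have hinj : Function.Injective (![⟨1, one_mem V⟩, ⟨s, hs⟩, ⟨w, hw⟩, ⟨s * w, V.mul_mem hs hw⟩,
            ⟨u, hu⟩] : Fin 5 → V) := by
          have hsw1 : s * w ≠ 1 := fun z => hws
            ((inv_eq_of_mul_eq_one_right z).symm.trans (inv_eq_of_mul_eq_one_right (hsq s hs)))
          intro i j hij
          fin_cases i <;> fin_cases j <;> simp [Subtype.ext_iff] at hij ⊢ <;>
            first
            | exact hw1 hij | exact hw1 hij.symm | exact hs1 hij | exact hs1 hij.symm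
            | exact hws hij | exact hws hij.symm | exact hu1 hij | exact hu1 hij.symm
            | exact hus hij | exact hus hij.symm | exact huw hij | exact huw hij.symm
            | exact husw hij | exact husw hij.symm | exact hsw1 hij | exact hsw1 hij.symm
        have := Nat.card_le_card_of_injective _ hinj
        rw [Nat.card_fin] at this
        omega
      have hy2 : φ ⟨y, hy⟩ ^ 2 = 1 := by
        refine Equiv.ext fun w => Subtype.ext ?_
        rw [pow_two, Equiv.Perm.mul_apply]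
        show y * (y * (w : PSL2) * y⁻¹) * y⁻¹ = w
        have hs2 := hsq s hs
        rcases himg w w.2 with hw | hw | hw
        · rw [hw]; simp
        · rw [hw, hys, mul_inv_cancel_right, hys, mul_inv_cancel_right]
        · have hm := (Subgroup.mem_normalizer_iff.1 hy w).1 w.2
          rcases hw _ hm with h | h | h | h
          · have := conj_eq_one_iff.1 h; rw [this]; simp
          · have e' : (w : PSL2) = s := by
              have := congrArg (fun v => y⁻¹ * v * y) h
              simp [mul_assoc] at this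
              rw [this, ← hys, inv_mul_cancel_left]
            rw [e', hys, mul_inv_cancel_right, hys, mul_inv_cancel_right]
          · rw [h, h]
          · calc y * (y * (w : PSL2) * y⁻¹) * y⁻¹ = y * (s * w) * y⁻¹ := by rw [h]
              _ = (y * s) * y⁻¹ * (y * w * y⁻¹) := by group
              _ = s * (s * w) := by rw [hys, mul_inv_cancel_right, h]
              _ = w := by rw [← mul_assoc, hs2, one_mul]
      have h1 : φ ⟨y, hy⟩ = 1 := by
        rw [pow_succ, hy2, one_mul] at hy3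
        exact hy3
      have : (⟨y, hy⟩ : N) ∈ φ.ker := h1
      rw [hker, Subgroup.mem_subgroupOf] at this
      exact hyV this
    have has' : a' * s' = s' * a' := by
      calc a' * s' = y * ((a : PSL2) * s) * y⁻¹ := by rw [ha', hs']; group
        _ = y * (s * a) * y⁻¹ := by rw [has]
        _ = _ := by rw [ha', hs']; group
    have hcom : (a : PSL2) * a' = a' * a := congrArg Subtype.val (hOab a ha.1 _ ha'O)
    obtain ⟨z, hz, rfl⟩ := hax s hs hs1
    have h1 : a' * pr z = pr z * a' := trans_axis h2 hz hr hr haP ha1' ha'r has hcom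
    have := two_axes _ hs _ hs'V hs1 hs'1 hss' a' r hr ha'r h1 has'
    exact ha1' (conj_eq_one_iff.1 this)
  have hHV : H = V := by
    refine le_antisymm ?_ hSH
    intro h hh
    have hinj : Function.Injective (fun k : H.subgroupOf K => f (k : K)) := by
      intro p q e
      have : (p : K) * (q : K)⁻¹ ∈ A := ⟨MonoidHom.mem_ker.2 (by
        rw [map_mul, map_inv, mul_inv_eq_one]; exact e),
        (H.subgroupOf K).mul_mem p.2 ((H.subgroupOf K).inv_mem q.2)⟩
      rw [hAbot, Subgroup.mem_bot, mul_inv_eq_one] at this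
      exact Subtype.ext this
    have hc1 : Nat.card (H.subgroupOf K) ≤ Nat.card (SK : Subgroup K) := Nat.card_le_card_of_injective _ hinj
    have hle : (SK : Subgroup K) ≤ H.subgroupOf K := fun k hk =>
      Subgroup.mem_subgroupOf.2 (hSH ((hSKmem k).1 hk))
    have heq : (SK : Subgroup K) = H.subgroupOf K := Subgroup.eq_of_le_of_card_ge hle hc1
    have : (⟨h, le_sup_left (a := H) hh⟩ : K) ∈ (SK : Subgroup K) := by
      rw [heq]; exact Subgroup.mem_subgroupOf.2 hh
    exact (hSKmem _).1 this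
  refine ⟨1, one_mem _, ?_⟩
  rw [hHV]
  ext w
  simp only [Subgroup.mem_map_equiv, MulAut.conj_symm_apply, inv_one, one_mul, mul_one]
  have := Subgroup.mem_normalizer_iff.1 (N.inv_mem hy) w
  rw [inv_inv] at this
  exact this.symm

/-- Odd index subgroups of `PSL_2(q)`, `q` odd, are pronormal. -/
theorem isPronormal_two (hodd : Fintype.card F % 2 = 1) (H : Subgroup PSL2) (hH : Odd H.index) :
    Cfsg.IsPronormal H := by
  classical
  haveI : Fact (Nat.Prime 2) := ⟨Nat.prime_two⟩
  have h2 := two_ne_zero_of_odd (F := F) hodd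
  have hπ : Function.Surjective pr := QuotientGroup.mk'_surjective _
  haveI : Finite PSL2 := Finite.of_surjective _ hπ
  obtain ⟨Q0, x, hx, y, hy, hxy⟩ := exists_noncommuting_sylow (F := F) hodd
  have hnc : ∀ Q : Sylow 2 SL2, ∃ x ∈ (Q : Subgroup SL2), ∃ y ∈ (Q : Subgroup SL2), x * y ≠ y * x := by
    intro Q
    obtain ⟨g, hg⟩ := MulAction.exists_smul_eq SL2 Q0 Q
    rw [← hg, Sylow.coe_subgroup_smul]
    refine ⟨g * x * g⁻¹, ⟨x, hx, rfl⟩, g * y * g⁻¹, ⟨y, hy, rfl⟩, fun e => hxy ?_⟩
    have := congrArg (fun w => g⁻¹ * w * g) e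
    simpa [mul_assoc] using this
  -- a Sylow subgroup inside `H`
  let R : Sylow 2 H := default
  have hidx : ¬ 2 ∣ ((R : Subgroup H).map H.subtype).index := by
    rw [Subgroup.index_map_subtype]
    exact Nat.prime_two.not_dvd_mul R.not_dvd_index (Nat.two_dvd_ne_zero.2 (Nat.odd_iff.1 hH))
  let S : Sylow 2 PSL2 := (R.isPGroup'.map H.subtype).toSylow hidx
  have hSH : (S : Subgroup PSL2) ≤ H := Subgroup.map_subtype_le _
  obtain ⟨g, hg⟩ := MulAction.exists_smul_eq PSL2 (Q0.mapSurjective hπ) S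
  obtain ⟨g, rfl⟩ := hπ g
  set Q : Sylow 2 SL2 := g • Q0 with hQdef
  have hSQ : (S : Subgroup PSL2) = (Q : Subgroup SL2).map pr := by
    rw [← hg, hQdef, Sylow.coe_subgroup_smul, Sylow.coe_subgroup_smul, Sylow.coe_mapSurjective]
    ext w
    constructor
    · rintro ⟨_, ⟨q, hq, rfl⟩, rfl⟩
      exact ⟨g * q * g⁻¹, ⟨q, hq, rfl⟩, by simp⟩
    · rintro ⟨_, ⟨q, hq, rfl⟩, rfl⟩
      exact ⟨pr q, ⟨q, hq, rfl⟩, by simp⟩
  rcases normalizer_cases hodd Q (hnc Q) with hA | ⟨u, hu, v, hv, huu, hvv, hanti, hall⟩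
  · refine isPronormal_of_odd_trivial pr hπ (ker_two_power h2) Q (fun b hb r hr hbr => ?_) H hH
    obtain ⟨s, hs, hsz⟩ := hA b hb
    obtain ⟨p, hp, q, hq, hpq⟩ := hnc Q
    have hc : ∀ z ∈ (Q : Subgroup SL2), (s⁻¹ * b) * z = z * (s⁻¹ * b) := by
      intro z hz
      calc s⁻¹ * b * z = s⁻¹ * (b * z * b⁻¹) * b := by group
        _ = s⁻¹ * (s * z * s⁻¹) * b := by rw [hsz z hz]
        _ = _ := by group
    have hbQ : b ∈ (Q : Subgroup SL2) := by
      rcases scalar_of_commute hpq (hc p hp) (hc q hq) with e1 | e1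
      · rw [← inv_mul_eq_one.1 e1]; exact hs
      · rw [show b = s * negOne by rw [← e1]; group]; exact mul_mem hs (negOne_mem Q)
    obtain ⟨k, hk⟩ := Q.isPGroup' ⟨b, hbQ⟩
    have h3 : b ^ Nat.gcd r (2 ^ k) = 1 := pow_gcd_eq_one.2 ⟨hbr, congrArg Subtype.val hk⟩
    rw [Nat.Coprime.pow_right k (Nat.odd_iff.2 hr).coprime_two_right, pow_one] at h3
    rw [h3]; exact one_mem _
  · have hneg : pr negOne = 1 := MonoidHom.mem_ker.1 ((mem_ker_iff h2).2 (Or.inr rfl))
    have huv2 : u * v * (u * v) = negOne := by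
      calc u * v * (u * v) = u * (v * u) * v := by group
        _ = u * negOne * (u * (v * v)) := by rw [hanti]; group
        _ = negOne := by
          rw [hvv, ← negOne_central u, mul_assoc negOne, ← mul_assoc u, ← negOne_central u,
            mul_assoc negOne u u, huu, negOne_sq, mul_one]
    have hmem : ∀ s ∈ (S : Subgroup PSL2), s = pr 1 ∨ s = pr u ∨ s = pr v ∨ s = pr (u * v) := by
      intro s hs
      rw [hSQ] at hs
      obtain ⟨z, hz, rfl⟩ := hs
      obtain ⟨w, hw, e | e⟩ := hall z hz <;>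
        [subst e; (rw [e, map_mul, hneg, one_mul])] <;>
        rcases hw with rfl | rfl | rfl | rfl <;> simp
    refine isPronormal_four hodd S ?_ ?_ ?_ ?_ H hSH
    · intro s hs hs1
      rcases hmem s hs with rfl | rfl | rfl | rfl
      · exact absurd (map_one _) hs1
      · exact ⟨u, huu, rfl⟩
      · exact ⟨v, hvv, rfl⟩
      · exact ⟨u * v, huv2, rfl⟩
    · let c : Fin 4 → PSL2 := ![pr 1, pr u, pr v, pr (u * v)]
      have hsub : ((S : Subgroup PSL2) : Set PSL2) ⊆ Set.range c := by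
        intro s hs
        rcases hmem s hs with rfl | rfl | rfl | rfl
        exacts [⟨0, rfl⟩, ⟨1, rfl⟩, ⟨2, rfl⟩, ⟨3, rfl⟩]
      have h4 := Set.ncard_le_ncard hsub (Set.toFinite _)
      have h5 : (Set.range c).ncard ≤ 4 := by
        rw [← Nat.card_coe_set_eq]
        simpa using Finite.card_range_le c
      rw [← Nat.card_coe_set_eq] at h4
      exact h4.trans h5
    · intro s hs
      rcases hmem s hs with rfl | rfl | rfl | rfl
      · simp
      · rw [← map_mul, huu, hneg]
      · rw [← map_mul, hvv, hneg]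
      · rw [← map_mul, huv2, hneg]
    · refine ⟨pr u, pr v, by rw [hSQ]; exact ⟨u, hu, rfl⟩, by rw [hSQ]; exact ⟨v, hv, rfl⟩, ?_, ?_, ?_⟩
      · intro e
        rcases (mem_ker_iff h2).1 (MonoidHom.mem_ker.2 e) with rfl | rfl
        · exact negOne_ne_one h2 (by simpa using huu.symm)
        · rw [negOne_sq] at huu; exact negOne_ne_one h2 huu.symm
      · intro e
        rcases (mem_ker_iff h2).1 (MonoidHom.mem_ker.2 e) with rfl | rfl
        · exact negOne_ne_one h2 (by simpa using hvv.symm)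
        · rw [negOne_sq] at hvv; exact negOne_ne_one h2 hvv.symm
      · intro e
        refine not_commute_of_anti h2 hanti ?_
        rcases pr_eq h2 e with rfl | rfl
        · rfl
        · rw [mul_assoc, ← mul_assoc v, ← negOne_central v, mul_assoc]

end Cfsg.Agent.Lib.SLOddIndex
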