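import Cfsg.Agent.Lib.SLOddIndex.CharTwo
import Cfsg.Agent.Lib.SLOddIndex.TwoDim
import Cfsg.Agent.Lib.SLOddIndex.Level
import Mathlib

/-! Odd index subgroups of `PSL_{2^w}(q)` are pronormal. -/

set_option autoImplicit false
set_option linter.unusedSectionVars false

namespace Cfsg.Agent.Lib.SLOddIndex

open Cfsg.Agent.Lib.PSLTwo.Sylow

universe v

variable {F : Type v} [Field F] [Fintype F]

theorem isPronormal_big (hodd : Fintype.card F % 2 = 1) {k : ℕ} (hk : 1 ≤ k)
    (H : Subgroup (Matrix.ProjectiveSpecialLinearGroup (Fin (2 ^ (k + 1))) F)) (hH : Odd H.index) :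
    Cfsg.IsPronormal H := by
  haveI : Fact (Nat.Prime 2) := ⟨Nat.prime_two⟩
  obtain ⟨W, hW⟩ := (good_level hodd k).2 hk
  let T : Matrix.SpecialLinearGroup (Fin (2 ^ (k + 1))) F →* GL (Fin (2 ^ (k + 1))) F :=
    Matrix.SpecialLinearGroup.toGL
  have hT : Function.Injective T := Matrix.SpecialLinearGroup.toGL_injective
  let π := QuotientGroup.mk' (Subgroup.center (Matrix.SpecialLinearGroup (Fin (2 ^ (k + 1))) F))
  have hdetT : ∀ z, Matrix.GeneralLinearGroup.det (T z) = 1 := fun z => Units.ext (by simp [T])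
  have hker : ∀ z ∈ π.ker, ∃ j, z ^ 2 ^ j = 1 := by
    intro z hz
    rw [QuotientGroup.ker_mk'] at hz
    obtain ⟨c, hc, hzc⟩ := Matrix.SpecialLinearGroup.mem_center_iff.1 hz
    refine ⟨k + 1, Subtype.ext ?_⟩
    rw [Fintype.card_fin] at hc
    show (z ^ 2 ^ (k + 1)).1 = 1
    rw [Matrix.SpecialLinearGroup.coe_pow, ← hzc, ← map_pow, hc, map_one]
  obtain ⟨P, hP⟩ := (W.isPGroup'.comap_of_injective T hT).exists_le_sylow
  have hPeq : ∀ z, z ∈ (P : Subgroup (Matrix.SpecialLinearGroup (Fin (2 ^ (k + 1))) F)) ↔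
      T z ∈ (W : Subgroup (GL (Fin (2 ^ (k + 1))) F)) := by
    obtain ⟨W', hW'⟩ := (P.isPGroup'.map T).exists_le_sylow
    obtain ⟨m, hm⟩ := MulAction.exists_smul_eq (GL (Fin (2 ^ (k + 1))) F) W W'
    have hback : ∀ z ∈ (P : Subgroup (Matrix.SpecialLinearGroup (Fin (2 ^ (k + 1))) F)),
        ∃ z' ∈ (W : Subgroup (GL (Fin (2 ^ (k + 1))) F)).comap T, m * T z' * m⁻¹ = T z := by
      intro z hz
      have h1 := hW' ⟨z, hz, rfl⟩
      rw [← hm, Sylow.coe_subgroup_smul] at h1
      obtain ⟨w, hw, hwz⟩ := h1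
      have hwz' : m * w * m⁻¹ = T z := hwz
      have hd : Matrix.GeneralLinearGroup.det w = 1 := by
        have := congrArg Matrix.GeneralLinearGroup.det hwz'
        rwa [map_mul, map_mul, map_inv, mul_inv_cancel_comm, hdetT] at this
      obtain ⟨z', rfl⟩ : ∃ z', T z' = w := by
        refine ⟨⟨(w : Matrix _ _ F), ?_⟩, Units.ext rfl⟩
        rw [← Matrix.GeneralLinearGroup.val_det_apply, hd, Units.val_one]
      exact ⟨z', hw, hwz'⟩
    choose g hg hgz using hback
    have hinj : Function.Injective (fun z : (P : Subgroup (Matrix.SpecialLinearGroup (Fin (2 ^ (k + 1))) F)) =>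
        (⟨g z z.2, hg z z.2⟩ : (W : Subgroup (GL (Fin (2 ^ (k + 1))) F)).comap T)) := by
      intro a b e
      have e' : g a a.2 = g b b.2 := congrArg Subtype.val e
      apply Subtype.ext
      apply hT
      rw [← hgz a a.2, ← hgz b b.2, e']
    have heq := Subgroup.eq_of_le_of_card_ge hP (Nat.card_le_card_of_injective _ hinj)
    intro z
    rw [← heq, Subgroup.mem_comap]
  refine isPronormal_of_odd_trivial π (QuotientGroup.mk'_surjective _) hker P (fun b hb r hr hbr => ?_) H hH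
  have hs : IsScal (T b) := by
    refine hW (T b) (fun w hw hd => ?_) ⟨r, hr, by rw [← map_pow, hbr, map_one]⟩
    obtain ⟨z, rfl⟩ : ∃ z, T z = w := by
      refine ⟨⟨(w : Matrix _ _ F), ?_⟩, Units.ext rfl⟩
      rw [← Matrix.GeneralLinearGroup.val_det_apply, hd, Units.val_one]
    rw [← map_inv, ← map_mul, ← map_mul]
    exact ⟨(hPeq _).1 (hb z ((hPeq z).2 hw)), hdetT _⟩
  rw [QuotientGroup.ker_mk', Subgroup.mem_center_iff]
  intro y
  apply hT
  rw [map_mul, map_mul, hs.commute (T y)]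

end Cfsg.Agent.Lib.SLOddIndex
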