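import Cfsg.Agent.Lib.SymSylow.Pronormal
import Mathlib

/-! Pronormality through self-normalising Sylow 2-subgroups of a central quotient. -/

set_option autoImplicit false

namespace Cfsg.Agent.Lib.SLOddIndex

theorem exists_odd_pow' {G : Type*} [Group G] [Finite G] (x : G) :
    ∃ r k : ℕ, r % 2 = 1 ∧ (x ^ r) ^ 2 ^ k = 1 := by
  obtain ⟨k, r, hr, h⟩ := Nat.exists_eq_two_pow_mul_odd (orderOf_pos x).ne'
  exact ⟨r, k, Nat.odd_iff.1 hr, by rw [← pow_mul, mul_comm, ← h, pow_orderOf_eq_one]⟩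

/-- A lift of odd order. -/
theorem exists_odd_lift {G G' : Type*} [Group G] [Group G'] (π : G →* G')
    (hπ : Function.Surjective π) (hker : ∀ z ∈ π.ker, ∃ k, z ^ 2 ^ k = 1) {x : G'} {r : ℕ}
    (hr : r % 2 = 1) (hx : x ^ r = 1) : ∃ a, π a = x ∧ a ^ r = 1 := by
  obtain ⟨g, rfl⟩ := hπ x
  obtain ⟨k, hk⟩ := hker (g ^ r) (by rw [MonoidHom.mem_ker, map_pow, hx])
  have hco : Nat.Coprime r (2 ^ k) := Nat.Coprime.pow_right k (Nat.odd_iff.2 hr).coprime_two_right
  have hb := Nat.gcd_eq_gcd_ab r (2 ^ k)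
  rw [hco] at hb
  refine ⟨g ^ (((2 ^ k : ℕ) : ℤ) * Nat.gcdB r (2 ^ k)), ?_, ?_⟩
  · have h1 : ((2 ^ k : ℕ) : ℤ) * Nat.gcdB r (2 ^ k) = 1 + (r : ℤ) * (- Nat.gcdA r (2 ^ k)) := by
      push_cast at hb ⊢
      linear_combination -hb
    rw [map_zpow, h1, zpow_add, zpow_one, zpow_mul, zpow_natCast, hx, one_zpow, mul_one]
  · rw [← zpow_natCast, ← zpow_mul, mul_comm, ← mul_assoc, ← Nat.cast_mul, zpow_mul, zpow_natCast,
      pow_mul, hk, one_zpow]

/-- If no odd element outside the kernel normalises a Sylow 2-subgroup, the image Sylow subgroups are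
self-normalising and every subgroup of odd index is pronormal. -/
theorem isPronormal_of_odd_trivial {G G' : Type*} [Group G] [Finite G] [Group G'] (π : G →* G')
    (hπ : Function.Surjective π) (hker : ∀ z ∈ π.ker, ∃ k, z ^ 2 ^ k = 1) (P : Sylow 2 G)
    (hP : ∀ b : G, (∀ y ∈ (P : Subgroup G), b * y * b⁻¹ ∈ (P : Subgroup G)) →
      ∀ r : ℕ, r % 2 = 1 → b ^ r = 1 → b ∈ π.ker)
    (H : Subgroup G') (hH : Odd H.index) : Cfsg.IsPronormal H := by
  haveI : Fact (Nat.Prime 2) := ⟨Nat.prime_two⟩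
  haveI : Finite G' := Finite.of_surjective π hπ
  have hkP : π.ker ≤ (P : Subgroup G) := by
    have hK : IsPGroup 2 π.ker := fun z => by
      obtain ⟨k, hk⟩ := hker z z.2
      exact ⟨k, Subtype.ext hk⟩
    have := P.is_maximal' (P.isPGroup'.to_sup_of_normal_right hK) le_sup_left
    exact this ▸ le_sup_right
  -- the normaliser of the image is the image
  have hN : Subgroup.normalizer ((P.mapSurjective hπ : Subgroup G') : Set G') =
      (P.mapSurjective hπ : Subgroup G') := by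
    refine le_antisymm ?_ Subgroup.le_normalizer
    intro x hx
    obtain ⟨r, k, hr, hk⟩ := exists_odd_pow' x
    have hodd : ∀ y ∈ Subgroup.normalizer ((P.mapSurjective hπ : Subgroup G') : Set G'),
        y ^ r = 1 → y = 1 := by
      intro y hy hyr
      obtain ⟨b, rfl, hb⟩ := exists_odd_lift π hπ hker hr hyr
      refine hP b (fun w hw => ?_) r hr hb
      have h1 : π (b * w * b⁻¹) ∈ (P.mapSurjective hπ : Subgroup G') := by
        rw [map_mul, map_mul, map_inv]
        exact (Subgroup.mem_normalizer_iff.1 hy _).1 (by rw [Sylow.coe_mapSurjective]; exact ⟨w, hw, rfl⟩)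
      rw [Sylow.coe_mapSurjective] at h1
      obtain ⟨w', hw', he⟩ := h1
      have : w'⁻¹ * (b * w * b⁻¹) ∈ (P : Subgroup G) :=
        hkP (by rw [MonoidHom.mem_ker, map_mul, map_inv, he, inv_mul_cancel])
      simpa using mul_mem hw' this
    have h1 := hodd (x ^ 2 ^ k) (pow_mem hx _) (by rw [← pow_mul, mul_comm, pow_mul, hk])
    have hp : IsPGroup 2 ((P.mapSurjective hπ : Subgroup G') ⊔ Subgroup.zpowers x : Subgroup G') := by
      have hz : IsPGroup 2 (Subgroup.zpowers x) := by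
        rintro ⟨y, hy⟩
        obtain ⟨i, rfl⟩ := Subgroup.mem_zpowers_iff.1 hy
        refine ⟨k, Subtype.ext ?_⟩
        show (x ^ i) ^ 2 ^ k = 1
        rw [← zpow_natCast (x ^ i), ← zpow_mul, mul_comm, zpow_mul, zpow_natCast, h1, one_zpow]
      exact (P.mapSurjective hπ).isPGroup'.to_sup_of_normal_left' hz (Subgroup.zpowers_le.2 hx)
    have := (P.mapSurjective hπ).is_maximal' hp le_sup_left
    rw [← this]
    exact Subgroup.mem_sup_right (Subgroup.mem_zpowers x)
  -- a Sylow subgroup inside `H`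
  let R : Sylow 2 H := default
  have hidx : ¬ 2 ∣ ((R : Subgroup H).map H.subtype).index := by
    rw [Subgroup.index_map_subtype]
    exact Nat.prime_two.not_dvd_mul R.not_dvd_index (Nat.two_dvd_ne_zero.2 (Nat.odd_iff.1 hH))
  let Q : Sylow 2 G' := (R.isPGroup'.map H.subtype).toSylow hidx
  have hQ : (Q : Subgroup G') ≤ H := Subgroup.map_subtype_le _
  refine Cfsg.Agent.Lib.SymSylow.Pronormal.isPronormal_of_normalizer_le Q hQ ?_
  obtain ⟨g, hg⟩ := MulAction.exists_smul_eq G' (P.mapSurjective hπ) Q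
  intro y hy
  rw [← hg] at hy hQ
  have hy1 : y • g • P.mapSurjective hπ = g • P.mapSurjective hπ :=
    Sylow.smul_eq_iff_mem_normalizer.mpr hy
  have hy' : g⁻¹ * y * g ∈ Subgroup.normalizer ((P.mapSurjective hπ : Subgroup G') : Set G') :=
    Sylow.smul_eq_iff_mem_normalizer.mp (by rw [mul_smul, mul_smul, hy1, inv_smul_smul])
  rw [hN] at hy'
  exact Subgroup.le_normalizer (hQ (by
    rw [Sylow.coe_subgroup_smul]
    exact ⟨_, hy', by simp [mul_assoc]⟩))

end Cfsg.Agent.Lib.SLOddIndex
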