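import Mathlib

/-! The two-part of the order of `GL_{2m}(q)`, `q` odd, `m` a power of two. -/

set_option autoImplicit false

namespace Cfsg.Agent.Lib.SLOddIndex

variable {q : ℕ}

theorem two_dvd_sub_one (hq : Odd q) (i : ℕ) : 2 ∣ q ^ i - 1 :=
  even_iff_two_dvd.1 (Nat.Odd.sub_odd (hq.pow) odd_one)

theorem sub_one_ne_zero (hq3 : 3 ≤ q) {i : ℕ} (hi : i ≠ 0) : q ^ i - 1 ≠ 0 := by
  have : q ≤ q ^ i := Nat.le_self_pow hi q
  omega

theorem val_geom (hq : Odd q) (hq3 : 3 ≤ q) {j t : ℕ} (ht : Odd t) :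
    padicValNat 2 (q ^ (2 ^ j * t) - 1) = padicValNat 2 (q ^ (2 ^ j) - 1) := by
  haveI : Fact (Nat.Prime 2) := ⟨Nat.prime_two⟩
  set x := q ^ (2 ^ j) with hx
  have hxo : Odd x := hq.pow
  rw [pow_mul, ← hx]
  have hx1 : 1 ≤ x := hxo.pos
  have hg : (x - 1) * (∑ i ∈ Finset.range t, x ^ i) = x ^ t - 1 := by
    have := geom_sum_mul_of_one_le hx1 t
    rw [mul_comm]; exact this
  have hsum : Odd (∑ i ∈ Finset.range t, x ^ i) := by
    rw [← ZMod.natCast_eq_one_iff_odd] at hxo ⊢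
    rw [← ZMod.natCast_eq_one_iff_odd] at ht
    push_cast
    simp [hxo, ht]
  have h2 : padicValNat 2 (∑ i ∈ Finset.range t, x ^ i) = 0 :=
    padicValNat.eq_zero_of_not_dvd (Nat.two_dvd_ne_zero.2 (Nat.odd_iff.1 hsum))
  rw [← hg, padicValNat.mul (sub_one_ne_zero hq3 (by positivity)) hsum.pos.ne', h2, add_zero]

theorem val_lt (hq : Odd q) (hq3 : 3 ≤ q) {k i : ℕ} (hi : i ≠ 0) (hik : i < 2 ^ k) :
    padicValNat 2 (q ^ i - 1) < padicValNat 2 (q ^ 2 ^ k - 1) := by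
  haveI : Fact (Nat.Prime 2) := ⟨Nat.prime_two⟩
  obtain ⟨j, t, ht, rfl⟩ := Nat.exists_eq_two_pow_mul_odd hi
  have hjk : j < k := by
    refine (Nat.pow_lt_pow_iff_right (by norm_num : 1 < 2)).1 (lt_of_le_of_lt ?_ hik)
    exact Nat.le_mul_of_pos_right _ ht.pos
  rw [val_geom hq hq3 ht]
  have step : ∀ l, padicValNat 2 (q ^ 2 ^ l - 1) < padicValNat 2 (q ^ 2 ^ (l + 1) - 1) := by
    intro l
    have h1 : q ^ 2 ^ (l + 1) - 1 = (q ^ 2 ^ l - 1) * (q ^ 2 ^ l + 1) := by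
      rw [pow_succ, pow_mul, mul_comm, ← Nat.sq_sub_sq, one_pow]
    rw [h1, padicValNat.mul (sub_one_ne_zero hq3 (by positivity)) (by positivity)]
    have : 1 ≤ padicValNat 2 (q ^ 2 ^ l + 1) :=
      one_le_padicValNat_of_dvd (by positivity) (even_iff_two_dvd.1 (hq.pow.add_one))
    omega
  exact strictMono_nat_of_lt_succ (f := fun l => padicValNat 2 (q ^ 2 ^ l - 1)) step hjk

theorem val_shift (hq : Odd q) (hq3 : 3 ≤ q) {k i : ℕ} (hi : i ≠ 0) (hik : i < 2 ^ k) :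
    padicValNat 2 (q ^ (2 ^ k + i) - 1) = padicValNat 2 (q ^ i - 1) := by
  haveI : Fact (Nat.Prime 2) := ⟨Nat.prime_two⟩
  set e := padicValNat 2 (q ^ i - 1) with he
  have hlt := val_lt hq hq3 hi hik
  have h1 : 1 ≤ q ^ 2 ^ k := hq.pow.pos
  have h2 : 1 ≤ q ^ i := hq.pow.pos
  have hsplit : q ^ (2 ^ k + i) - 1 = q ^ 2 ^ k * (q ^ i - 1) + (q ^ 2 ^ k - 1) := by
    rw [pow_add, Nat.mul_sub, mul_one]
    have : q ^ 2 ^ k ≤ q ^ 2 ^ k * q ^ i := Nat.le_mul_of_pos_right _ h2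
    omega
  have hbig : 2 ^ (e + 1) ∣ q ^ 2 ^ k - 1 :=
    (pow_dvd_pow 2 (by omega)).trans pow_padicValNat_dvd
  have hne : q ^ (2 ^ k + i) - 1 ≠ 0 := sub_one_ne_zero hq3 (by omega)
  have hlo : 2 ^ e ∣ q ^ (2 ^ k + i) - 1 := by
    rw [hsplit]
    exact dvd_add (Dvd.dvd.mul_left pow_padicValNat_dvd _) ((pow_dvd_pow 2 (Nat.le_succ e)).trans hbig)
  have hhi : ¬ 2 ^ (e + 1) ∣ q ^ (2 ^ k + i) - 1 := by
    intro hd
    rw [hsplit, ← Nat.dvd_add_iff_left hbig] at hd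
    have hco : (2 ^ (e + 1)).Coprime (q ^ 2 ^ k) :=
      Nat.Coprime.pow _ _ (Nat.coprime_two_left.2 hq)
    exact pow_succ_padicValNat_not_dvd (sub_one_ne_zero hq3 hi) (hco.dvd_of_dvd_mul_left hd)
  have l1 : e ≤ padicValNat 2 (q ^ (2 ^ k + i) - 1) := (padicValNat_dvd_iff_le hne).1 hlo
  have l2 : ¬ e + 1 ≤ padicValNat 2 (q ^ (2 ^ k + i) - 1) := fun z => hhi ((padicValNat_dvd_iff_le hne).2 z)
  omega

theorem val_double (hq : Odd q) (hq3 : 3 ≤ q) {k : ℕ} (hk : 1 ≤ k) :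
    padicValNat 2 (q ^ (2 ^ k + 2 ^ k) - 1) = padicValNat 2 (q ^ 2 ^ k - 1) + 1 := by
  haveI : Fact (Nat.Prime 2) := ⟨Nat.prime_two⟩
  have h1 : q ^ (2 ^ k + 2 ^ k) - 1 = (q ^ 2 ^ k - 1) * (q ^ 2 ^ k + 1) := by
    rw [pow_add, ← sq, mul_comm (q ^ 2 ^ k - 1), ← Nat.sq_sub_sq, one_pow]
  rw [h1, padicValNat.mul (sub_one_ne_zero hq3 (by positivity)) (by positivity)]
  congr 1
  have h4 : (q ^ 2 ^ k + 1) % 4 = 2 := by
    obtain ⟨l, rfl⟩ : ∃ l, k = l + 1 := ⟨k - 1, by omega⟩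
    rw [pow_succ, pow_mul, Nat.add_mod, Nat.pow_mod]
    have : (q ^ 2 ^ l) % 4 = 1 ∨ (q ^ 2 ^ l) % 4 = 3 := by
      have := Nat.odd_iff.1 (hq.pow (n := 2 ^ l))
      omega
    rcases this with h | h <;> simp [h]
  obtain ⟨c, hc⟩ : ∃ c, q ^ 2 ^ k + 1 = 2 * c := even_iff_two_dvd.1 hq.pow.add_one
  rw [hc, padicValNat.mul (by norm_num) (by omega), padicValNat.self (by norm_num),
    padicValNat.eq_zero_of_not_dvd (by omega : ¬ 2 ∣ c)]

/-- The product `∏_{i < n} (q ^ n - q ^ i)`. -/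
def glOrder (q n : ℕ) : ℕ := ∏ i ∈ Finset.range n, (q ^ n - q ^ i)

theorem glOrder_val (hq : Odd q) (hq3 : 3 ≤ q) (n : ℕ) :
    padicValNat 2 (glOrder q n) = ∑ j ∈ Finset.range n, padicValNat 2 (q ^ (j + 1) - 1) := by
  haveI : Fact (Nat.Prime 2) := ⟨Nat.prime_two⟩
  have hterm : ∀ i ∈ Finset.range n, q ^ n - q ^ i = q ^ i * (q ^ (n - i) - 1) := by
    intro i hi
    rw [Finset.mem_range] at hi
    rw [Nat.mul_sub, mul_one, ← pow_add, Nat.add_sub_cancel' hi.le]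
  unfold glOrder
  rw [Finset.prod_congr rfl hterm, Finset.prod_mul_distrib,
    padicValNat.mul (Finset.prod_ne_zero_iff.2 fun i _ => by positivity)
      (Finset.prod_ne_zero_iff.2 fun i hi => sub_one_ne_zero hq3 (by
        rw [Finset.mem_range] at hi; omega))]
  have h0 : padicValNat 2 (∏ i ∈ Finset.range n, q ^ i) = 0 := by
    rw [Finset.prod_pow_eq_pow_sum]
    exact padicValNat.eq_zero_of_not_dvd (Nat.two_dvd_ne_zero.2 (Nat.odd_iff.1 hq.pow))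
  rw [h0, zero_add, ← Finset.prod_range_reflect]
  rw [Finset.prod_congr rfl (g := fun j => q ^ (j + 1) - 1) (fun j hj => by
    rw [Finset.mem_range] at hj
    congr 2
    omega)]
  induction n with
  | zero => simp
  | succ n ih =>
    rw [Finset.prod_range_succ, Finset.sum_range_succ,
      padicValNat.mul (Finset.prod_ne_zero_iff.2 fun i _ => sub_one_ne_zero hq3 (by omega))
        (sub_one_ne_zero hq3 (by omega))]
    congr 1
    apply ih
    · intro i hi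
      rw [Finset.mem_range] at hi
      rw [Nat.mul_sub, mul_one, ← pow_add, Nat.add_sub_cancel' hi.le]
    · rw [Finset.prod_pow_eq_pow_sum]
      exact padicValNat.eq_zero_of_not_dvd (Nat.two_dvd_ne_zero.2 (Nat.odd_iff.1 hq.pow))

theorem glOrder_double (hq : Odd q) (hq3 : 3 ≤ q) {k : ℕ} (hk : 1 ≤ k) :
    padicValNat 2 (glOrder q (2 ^ k + 2 ^ k)) = 2 * padicValNat 2 (glOrder q (2 ^ k)) + 1 := by
  rw [glOrder_val hq hq3, glOrder_val hq hq3, Finset.sum_range_add]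
  obtain ⟨M, hM⟩ : ∃ M, 2 ^ k = M + 1 := ⟨2 ^ k - 1, by have := Nat.two_pow_pos k; omega⟩
  have h1 : ∀ x ∈ Finset.range M, padicValNat 2 (q ^ (2 ^ k + x + 1) - 1) = padicValNat 2 (q ^ (x + 1) - 1) := by
    intro x hx
    rw [Finset.mem_range] at hx
    rw [add_assoc]
    exact val_shift hq hq3 (by omega) (by omega)
  have h2 := val_double hq hq3 hk
  rw [hM] at h1 h2 ⊢
  rw [Finset.sum_range_succ, Finset.sum_range_succ, Finset.sum_congr rfl h1,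
    show M + 1 + M + 1 = M + 1 + (M + 1) by ring, h2]
  ring

end Cfsg.Agent.Lib.SLOddIndex
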